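import Groth.Prelude.Def_SGA4b
import Mathlib.AlgebraicGeometry.Morphisms.Flat
import Mathlib.AlgebraicGeometry.Morphisms.UniversallyOpen

/-!
# Quasi-compact surjective morphisms along which generizations lift are submersive
-/

set_option autoImplicit false
universe u

open CategoryTheory CategoryTheory.Limits AlgebraicGeometry Opposite

namespace Groth.Agent.Etbc.H184.GenSubm

theorem isQuotientMap_of_generalizingMap {X Y : Scheme.{u}} (f : X ⟶ Y) [QuasiCompact f]
    [Surjective f] (hf : ∀ ⦃X' Y' : Scheme.{u}⦄ (j : Y' ⟶ Y) (k : X' ⟶ X) (f' : X' ⟶ Y')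
      [IsOpenImmersion j], IsPullback k f' f j → GeneralizingMap f') :
    Topology.IsQuotientMap f := by
  rw [Topology.isQuotientMap_iff]
  refine ⟨.of_isOpen_preimage_iff_isOpen fun s ↦
    ⟨fun hs ↦ ?_, fun hs ↦ hs.preimage f.continuous⟩, f.surjective⟩
  -- reduce to an affine target
  let 𝒰 := Y.affineCover
  rw [𝒰.isOpenCover_opensRange.isOpen_iff_inter]
  intro i
  rw [Scheme.Hom.coe_opensRange, ← Set.image_preimage_eq_inter_range]
  apply (𝒰.f i).isOpenEmbedding.isOpenMap
  have hgen : GeneralizingMap (pullback.fst (𝒰.f i) f) :=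
    hf (𝒰.f i) (pullback.snd _ _) (pullback.fst _ _) (IsPullback.of_hasPullback _ _).flip
  have hs' : IsOpen ((pullback.fst (𝒰.f i) f) ⁻¹' ((𝒰.f i) ⁻¹' s)) := by
    rw [← Set.preimage_comp, ← TopCat.coe_comp, ← Scheme.Hom.comp_base, pullback.condition,
      Scheme.Hom.comp_base, TopCat.coe_comp, Set.preimage_comp]
    exact hs.preimage (Scheme.Hom.continuous _)
  -- reduce to an affine source
  have key : ∀ (R : CommRingCat.{u}) (Z : Scheme.{u}) (g : Z ⟶ Spec R) [QuasiCompact g]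
      [Surjective g] (_ : GeneralizingMap g) (t : Set (Spec R)), IsOpen (g ⁻¹' t) → IsOpen t := by
    intro R Z g _ _ hg t ht
    have _ : CompactSpace Z := QuasiCompact.compactSpace_of_compactSpace g
    let 𝒱 := Z.affineCover.finiteSubcover
    let p : ∐ (fun i : 𝒱.I₀ ↦ 𝒱.X i) ⟶ Z := Sigma.desc (fun i ↦ 𝒱.f i)
    let q : Spec (Γ(∐ (fun i : 𝒱.I₀ ↦ 𝒱.X i), ⊤)) ⟶ Spec R :=
      (∐ (fun i : 𝒱.I₀ ↦ 𝒱.X i)).isoSpec.inv ≫ p ≫ g
    have hq : GeneralizingMap q := by
      have h1 : GeneralizingMap ((∐ (fun i : 𝒱.I₀ ↦ 𝒱.X i)).isoSpec.inv ≫ p) :=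
        Flat.generalizingMap _
      have h2 := h1.comp hg
      have h3 : q = ((∐ (fun i : 𝒱.I₀ ↦ 𝒱.X i)).isoSpec.inv ≫ p) ≫ g := (Category.assoc _ _ _).symm
      rw [h3, Scheme.Hom.comp_base, TopCat.coe_comp]
      exact h2
    have hqs : Surjective q := inferInstance
    have hqt : IsOpen (q ⁻¹' t) := by
      have h3 : q = ((∐ (fun i : 𝒱.I₀ ↦ 𝒱.X i)).isoSpec.inv ≫ p) ≫ g := (Category.assoc _ _ _).symm
      rw [h3, Scheme.Hom.comp_base, TopCat.coe_comp, Set.preimage_comp]
      exact ht.preimage (Scheme.Hom.continuous _)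
    obtain ⟨φ, hφ⟩ := Spec.map_surjective q
    rw [← hφ] at hq hqs hqt
    exact ((PrimeSpectrum.isQuotientMap_of_generalizingMap hqs.surj hq).isOpen_preimage).mp hqt
  have hqc : QuasiCompact (pullback.fst (𝒰.f i) f) := inferInstance
  have hsj : Surjective (pullback.fst (𝒰.f i) f) := inferInstance
  exact @key _ _ (pullback.fst (𝒰.f i) f) hqc hsj hgen _ hs'

/-- A quasi-compact surjective morphism along which generizations lift universally is universally
submersive. -/
theorem isUnivSubmersive_of_generalizing {X Y : Scheme.{u}} (f : X ⟶ Y) [QuasiCompact f]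
    [Surjective f] (hf : ∀ ⦃X' Y' : Scheme.{u}⦄ (j : Y' ⟶ Y) (k : X' ⟶ X) (f' : X' ⟶ Y'),
      IsPullback k f' f j → GeneralizingMap f') : EtDesc.IsUnivSubmersive f := by
  intro Z g
  refine ⟨(inferInstance : Surjective (pullback.snd f g)).surj,
    isQuotientMap_of_generalizingMap (pullback.snd f g) ?_⟩
  intro X' Y' j k f' _ H
  exact hf (j ≫ g) (k ≫ pullback.fst f g) f' (H.paste_horiz (IsPullback.of_hasPullback f g))

/-- Universally submersive morphisms are stable under base change. -/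
theorem isUnivSubmersive_of_isPullback {X Y X' Y' : Scheme.{u}} {f : X ⟶ Y} {j : Y' ⟶ Y}
    {k : X' ⟶ X} {f' : X' ⟶ Y'} (H : IsPullback k f' f j) (hf : EtDesc.IsUnivSubmersive f) :
    EtDesc.IsUnivSubmersive f' := by
  intro Z g
  have H2 : IsPullback (pullback.fst f' g ≫ k) (pullback.snd f' g) f (g ≫ j) :=
    (IsPullback.of_hasPullback f' g).paste_horiz H
  have h1 := hf Z (g ≫ j)
  have e : pullback.snd f' g = H2.isoPullback.hom ≫ pullback.snd f (g ≫ j) :=
    (H2.isoPullback_hom_snd).symm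
  have h2 : Topology.IsQuotientMap H2.isoPullback.hom :=
    (Scheme.homeoOfIso H2.isoPullback).isQuotientMap
  have h3 : Topology.IsQuotientMap (pullback.snd f' g) := by
    rw [e, Scheme.Hom.comp_base, TopCat.coe_comp]
    exact h1.2.comp h2
  exact ⟨h3.surjective, h3⟩

end Groth.Agent.Etbc.H184.GenSubm
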