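import Groth.Agent.Etbc.H184.FamSh
import Groth.Agent.Ega43.LimDesc

/-!
# The degree zero limit theorem for étale sheaves of sets

In terms of local families (`Big.IsLoc`): let `D : I ⥤ Scheme` be a cofiltered diagram of
quasi-compact and quasi-separated schemes with affine transition maps and limit cone `c`.

* `exists_agree` : two local families on `D i` which agree on the limit agree on some `D j`;
* `exists_ext` : a local family on the limit comes from some `D j`.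
-/

set_option autoImplicit false
set_option backward.isDefEq.respectTransparency.types false
universe u

open CategoryTheory CategoryTheory.Limits AlgebraicGeometry Opposite

namespace Groth.Agent.Etbc.H184.LimSecSh

open EtDesc Groth.Agent.Etbc.H184.FamSh Groth.Agent.Ega43.LimDesc
open Groth.Agent.Sga4A.EtStalk (exists_geomPoint)
open Groth.Agent.EtpbcB.Big (exists_lift)

variable {I : Type u} [SmallCategory I] [IsCofiltered I] {D : I ⥤ Scheme.{u}}
  [∀ {i j} (f : i ⟶ j), IsAffineHom (D.map f)] [∀ i, CompactSpace (D.obj i)]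
  (c : Cone D) (hc : IsLimit c) {X : Scheme.{u}} {F : Sh X}

include hc in
/-- Two local families on `D i` which agree on the limit agree on some `D j`. -/
theorem exists_agree {i : I} {q : D.obj i ⟶ X} {v v' : Fam F q} (hv : IsLoc v) (hv' : IsLoc v')
    (h : v.res (c.π.app i) rfl = v'.res (c.π.app i) rfl) :
    ∃ (j : I) (f : j ⟶ i), v.res (D.map f) rfl = v'.res (D.map f) rfl := by
  let U : (D.obj i).Opens := ⟨agree v v', hv.isOpen_agree hv'⟩
  have hU : c.π.app i ⁻¹ᵁ U = ⊤ := by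
    ext z
    simp only [TopologicalSpace.Opens.coe_top, Set.mem_univ, iff_true]
    change z ∈ (c.π.app i) ⁻¹' agree v v'
    rw [← hv.agree_res hv' (c.π.app i) rfl, h]
    intro Ω _ _ l ξ hl _
    rfl
  obtain ⟨j, f, hf⟩ := exists_map_eq_top D c hc U hU
  refine ⟨j, f, eq_of_agree fun z => ?_⟩
  rw [hv.agree_res hv' (D.map f) rfl]
  have : z ∈ (D.map f ⁻¹ᵁ U : (D.obj j).Opens) := by rw [hf]; trivial
  exact this

/-- Gluing of local families along étale maps, in terms of geometric points. -/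
theorem exists_glue {Z : Scheme.{u}} (r : Z ⟶ X) {K : Type*} (B E : K → Scheme.{u})
    (g : ∀ k, Z ⟶ B k) (e : ∀ k, E k ⟶ B k) [∀ k, Etale (e k)] (s : ∀ k, B k ⟶ X)
    (hr : ∀ k, g k ≫ s k = r) (τ : ∀ k, Fam F (e k ≫ s k)) (hτ : ∀ k, IsLoc (τ k))
    (hcov : ∀ z : Z, ∃ k, g k z ∈ Set.range (e k))
    (hcomp : ∀ (k k' : K) (Ω : Type u) [Field Ω] [IsSepClosed Ω] (l : Spec (.of Ω) ⟶ Z)
      (m : Spec (.of Ω) ⟶ E k) (m' : Spec (.of Ω) ⟶ E k') (ξ : Spec (.of Ω) ⟶ X)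
      (h : m ≫ e k ≫ s k = ξ) (h' : m' ≫ e k' ≫ s k' = ξ) (_ : m ≫ e k = l ≫ g k)
      (_ : m' ≫ e k' = l ≫ g k'), τ k Ω m ξ h = τ k' Ω m' ξ h') :
    ∃ v : Fam F r, IsLoc v ∧ ∀ (k : K) (Ω : Type u) [Field Ω] [IsSepClosed Ω]
      (l : Spec (.of Ω) ⟶ Z) (m : Spec (.of Ω) ⟶ E k) (ξ : Spec (.of Ω) ⟶ X) (hl : l ≫ r = ξ)
      (h : m ≫ e k ≫ s k = ξ) (_ : m ≫ e k = l ≫ g k), v Ω l ξ hl = τ k Ω m ξ h := by
  have key : ∀ (Ω : Type u) [Field Ω] [IsSepClosed Ω] (l : Spec (.of Ω) ⟶ Z)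
      (ξ : Spec (.of Ω) ⟶ X) (_ : l ≫ r = ξ), ∃ (k : K) (m : Spec (.of Ω) ⟶ E k)
        (_ : m ≫ e k ≫ s k = ξ), m ≫ e k = l ≫ g k := by
    intro Ω _ _ l ξ hl
    obtain ⟨k, x, hx⟩ := hcov (l default)
    obtain ⟨m, hm, -⟩ := exists_lift (e k) (l ≫ g k) x hx
    refine ⟨k, m, ?_, hm⟩
    rw [← Category.assoc, hm, Category.assoc, hr, hl]
  let v : Fam F r := fun Ω _ _ l ξ hl =>
    τ (key Ω l ξ hl).choose Ω (key Ω l ξ hl).choose_spec.choose ξ
      (key Ω l ξ hl).choose_spec.choose_spec.choose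
  have hv : ∀ (k : K) (Ω : Type u) [Field Ω] [IsSepClosed Ω]
      (l : Spec (.of Ω) ⟶ Z) (m : Spec (.of Ω) ⟶ E k) (ξ : Spec (.of Ω) ⟶ X) (hl : l ≫ r = ξ)
      (h : m ≫ e k ≫ s k = ξ) (_ : m ≫ e k = l ≫ g k), v Ω l ξ hl = τ k Ω m ξ h := by
    intro k Ω _ _ l m ξ hl h hm
    exact hcomp _ _ Ω l _ _ ξ _ _ (key Ω l ξ hl).choose_spec.choose_spec.choose_spec hm
  refine ⟨v, ?_, hv⟩
  intro z
  obtain ⟨k, x, hx⟩ := hcov z
  obtain ⟨W, a, ha, w, V, b, hb, σ, hw, hσ⟩ := hτ k x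
  -- the étale map `W ×_{B k} Z ⟶ Z`
  obtain ⟨p, hp1, hp2⟩ := Scheme.Pullback.exists_preimage_pullback (f := a ≫ e k) (g := g k) w z
    (by rw [Scheme.Hom.comp_apply, hw, hx])
  have e1 : (pullback.fst (a ≫ e k) (g k) ≫ b) ≫ V.hom = pullback.snd (a ≫ e k) (g k) ≫ r := by
    rw [Category.assoc, hb, ← hr k, ← Category.assoc (pullback.snd _ _), ← pullback.condition]
    simp only [Category.assoc]
  refine ⟨pullback (a ≫ e k) (g k), pullback.snd _ _, inferInstance, p, V,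
    pullback.fst _ _ ≫ b, e1, σ, hp2, ?_⟩
  ext Ω _ _ l ξ hl
  have h1 : ((l ≫ pullback.fst (a ≫ e k) (g k)) ≫ a) ≫ e k =
      (l ≫ pullback.snd (a ≫ e k) (g k)) ≫ g k := by
    simp only [Category.assoc]
    rw [pullback.condition]
  have h2 : ((l ≫ pullback.fst (a ≫ e k) (g k)) ≫ a) ≫ e k ≫ s k = ξ := by
    rw [← Category.assoc, h1, Category.assoc, Category.assoc, hr, hl]
  have h3 := hv k Ω (l ≫ pullback.snd _ _) ((l ≫ pullback.fst (a ≫ e k) (g k)) ≫ a) ξ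
    (by rw [Category.assoc, hl]) h2 h1
  refine Eq.trans h3 ?_
  have h4 := Fam.congr_fun hσ (l ≫ pullback.fst (a ≫ e k) (g k)) (ξ := ξ) (by
    rw [← h2, Category.assoc, Category.assoc, Category.assoc])
  refine Eq.trans h4 ?_
  exact (fam σ).congr (Category.assoc _ _ _) _

omit [∀ i, CompactSpace (D.obj i)] in
include hc in
/-- Local form of the extension statement: around every point of the limit, a local family is
induced by a local family on a quasi-compact étale scheme over some `D j`. -/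
theorem exists_local_ext (t : D ⟶ (Functor.const I).obj X) {q : c.pt ⟶ X}
    (hq : ∀ j, c.π.app j ≫ t.app j = q) {v : Fam F q} (hv : IsLoc v) (z : c.pt) :
    ∃ (j : I) (E : Scheme.{u}) (e : E ⟶ D.obj j) (_ : Etale e) (_ : CompactSpace E)
      (τ : Fam F (e ≫ t.app j)), IsLoc τ ∧ c.π.app j z ∈ Set.range e ∧
      ∀ (Ω : Type u) [Field Ω] [IsSepClosed Ω] (l : Spec (.of Ω) ⟶ c.pt)
        (m : Spec (.of Ω) ⟶ E) (ξ : Spec (.of Ω) ⟶ X) (hl : l ≫ q = ξ)
        (h : m ≫ e ≫ t.app j = ξ) (_ : m ≫ e = l ≫ c.π.app j), v Ω l ξ hl = τ Ω m ξ h := by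
  obtain ⟨W, a, ha, w, V, b, hb, σ, hw, hσ⟩ := hv z
  obtain ⟨j₀⟩ := IsCofiltered.nonempty (C := I)
  -- the étale scheme `P = D j₀ ×_X V` over `D j₀`
  have hWP : (a ≫ c.π.app j₀) ≫ t.app j₀ = b ≫ V.hom := by
    rw [hb, Category.assoc, hq]
  let P := pullback (t.app j₀) V.hom
  let u : W ⟶ P := pullback.lift (a ≫ c.π.app j₀) b hWP
  have hu1 : u ≫ pullback.fst (t.app j₀) V.hom = a ≫ c.π.app j₀ := pullback.lift_fst _ _ _
  have hu2 : u ≫ pullback.snd (t.app j₀) V.hom = b := pullback.lift_snd _ _ _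
  obtain ⟨A, hA, hwA⟩ : ∃ A : P.Opens, IsAffineOpen A ∧ u w ∈ A := by
    obtain ⟨_, ⟨A, hA : IsAffineOpen A, rfl⟩, hwA, -⟩ :=
      P.isBasis_affineOpens.exists_subset_of_mem_open (Set.mem_univ (u w)) isOpen_univ
    exact ⟨A, hA, hwA⟩
  obtain ⟨g₀, hg₀'⟩ : ∃ g₀ : (A : Scheme.{u}) ⟶ D.obj j₀,
    g₀ = A.ι ≫ pullback.fst (t.app j₀) V.hom := ⟨_, rfl⟩
  have hg₀ : Etale g₀ := by rw [hg₀']; infer_instance
  have : IsAffine (A : Scheme.{u}) := hA
  have hτ0 : (A.ι ≫ pullback.snd (t.app j₀) V.hom) ≫ V.hom = g₀ ≫ t.app j₀ := by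
    simp only [hg₀', Category.assoc]
    rw [pullback.condition]
  let τ0 : Fam F (g₀ ≫ t.app j₀) := (fam σ).res (A.ι ≫ pullback.snd (t.app j₀) V.hom) hτ0
  have hτ0loc : IsLoc τ0 := (isLoc_fam σ).res _ _
  -- the limit of the base changed system
  let Q := (bcCone D c g₀).pt
  have hQ : bcPtFst D c g₀ ≫ q = bcPtSnd D c g₀ ≫ g₀ ≫ t.app j₀ := by
    rw [← hq j₀, ← Category.assoc, ← Category.assoc]
    exact congrArg (· ≫ t.app j₀) (bcCone_isPullback₀ D c g₀).w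
  let v1 : Fam F (bcPtFst D c g₀ ≫ q) := v.res (bcPtFst D c g₀) rfl
  let v2 : Fam F (bcPtFst D c g₀ ≫ q) := τ0.res (bcPtSnd D c g₀) hQ.symm
  have hv1 : IsLoc v1 := hv.res _ _
  have hv2 : IsLoc v2 := hτ0loc.res _ _
  -- the point `q0` of `Q`
  obtain ⟨Ω, _, _, l, hl⟩ := exists_geomPoint W w
  have hlA : Set.range (l ≫ u) ⊆ Set.range A.ι := by
    rw [A.range_ι]
    rintro _ ⟨x, rfl⟩
    have e1 : x = default := Subsingleton.elim _ _
    have : (l ≫ u) x = u w := by rw [e1, Scheme.Hom.comp_apply, hl]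
    rw [this]
    exact hwA
  let lA : Spec (.of Ω) ⟶ (A : Scheme.{u}) := IsOpenImmersion.lift A.ι (l ≫ u) hlA
  have hlA' : lA ≫ A.ι = l ≫ u := IsOpenImmersion.lift_fac A.ι (l ≫ u) hlA
  let mQ : Spec (.of Ω) ⟶ Q := (bcCone_isPullback₀ D c g₀).lift (l ≫ a) lA (by
    rw [hg₀', ← Category.assoc lA, hlA', Category.assoc, Category.assoc, hu1])
  have hmQ1 : mQ ≫ bcPtFst D c g₀ = l ≫ a := (bcCone_isPullback₀ D c g₀).lift_fst _ _ _
  have hmQ2 : mQ ≫ bcPtSnd D c g₀ = lA := (bcCone_isPullback₀ D c g₀).lift_snd _ _ _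
  have hmN : mQ default ∈ agree v1 v2 := by
    refine hv1.mem_agree hv2 mQ (ξ := (l ≫ a) ≫ q) (by rw [← Category.assoc, hmQ1]) ?_
    have h1 := Fam.congr_fun hσ l (ξ := (l ≫ a) ≫ q) (by rw [Category.assoc])
    refine (v.congr hmQ1 _).trans (h1.trans ?_)
    refine (fam σ).congr ?_ _
    rw [hmQ2, ← Category.assoc lA, hlA', Category.assoc, hu2]
  obtain ⟨O, hO, hmO, hON⟩ : ∃ O : Q.Opens, IsAffineOpen O ∧ mQ default ∈ O ∧
      (O : Set Q) ⊆ agree v1 v2 := by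
    obtain ⟨_, ⟨O, hO : IsAffineOpen O, rfl⟩, h1, h2⟩ :=
      Q.isBasis_affineOpens.exists_subset_of_mem_open hmN (hv1.isOpen_agree hv2)
    exact ⟨O, hO, h1, h2⟩
  obtain ⟨φ, G, hG, hGO⟩ := exists_preimage_eq (bc D g₀) (bcCone D c g₀) (bcIsLimit D c g₀ hc) O
    hO.isCompact
  have het : Etale (bcFst D g₀ φ) := inferInstanceAs (Etale (pullback.fst (D.map φ.hom) g₀))
  have htn : D.map φ.hom ≫ t.app j₀ = t.app φ.left :=
    (t.naturality φ.hom).trans (Category.comp_id _)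
  have hτ : (G.ι ≫ bcSnd D g₀ φ) ≫ g₀ ≫ t.app j₀ = (G.ι ≫ bcFst D g₀ φ) ≫ t.app φ.left := by
    rw [← htn, Category.assoc, Category.assoc, ← Category.assoc (bcSnd D g₀ φ),
      ← (bc_isPullback₀ D g₀ φ).w, Category.assoc]
  refine ⟨φ.left, G, G.ι ≫ bcFst D g₀ φ, inferInstance, isCompact_iff_compactSpace.1 hG,
    τ0.res (G.ι ≫ bcSnd D g₀ φ) hτ, hτ0loc.res _ _, ?_, ?_⟩
  · have h1 : (bcCone D c g₀).π.app φ (mQ default) ∈ G := by
      have : mQ default ∈ (bcCone D c g₀).π.app φ ⁻¹ᵁ G := by rw [hGO]; exact hmO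
      exact this
    have h2 : (bcCone D c g₀).π.app φ (mQ default) ∈ Set.range G.ι := by
      rw [G.range_ι]; exact h1
    obtain ⟨x', hx'⟩ := h2
    refine ⟨x', ?_⟩
    rw [Scheme.Hom.comp_apply, hx', ← Scheme.Hom.comp_apply, bcCone_π_fst,
      Scheme.Hom.comp_apply]
    congr 1
    rw [← Scheme.Hom.comp_apply, hmQ1, Scheme.Hom.comp_apply, hl, hw]
  · intro Ω' _ _ l' m ξ hl' hm hml
    have hm' : m ≫ G.ι ≫ bcFst D g₀ φ = l' ≫ c.π.app φ.left := hml
    have e1 : l' ≫ c.π.app j₀ = (m ≫ G.ι ≫ bcSnd D g₀ φ) ≫ g₀ := by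
      rw [Category.assoc, Category.assoc, ← (bc_isPullback₀ D g₀ φ).w, ← c.w φ.hom,
        ← Category.assoc l', ← hm']
      simp only [Category.assoc]
    let κ : Spec (.of Ω') ⟶ Q := (bcCone_isPullback₀ D c g₀).lift l' (m ≫ G.ι ≫ bcSnd D g₀ φ) e1
    have hκ1 : κ ≫ bcPtFst D c g₀ = l' := (bcCone_isPullback₀ D c g₀).lift_fst _ _ _
    have hκ2 : κ ≫ bcPtSnd D c g₀ = m ≫ G.ι ≫ bcSnd D g₀ φ :=
      (bcCone_isPullback₀ D c g₀).lift_snd _ _ _
    have hκ3 : κ ≫ (bcCone D c g₀).π.app φ = m ≫ G.ι := by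
      apply (bc_isPullback₀ D g₀ φ).hom_ext
      · rw [Category.assoc, bcCone_π_fst, ← Category.assoc, hκ1, Category.assoc, hm']
      · rw [Category.assoc, bcCone_π_snd, hκ2, Category.assoc]
    have hκ4 : κ default ∈ O := by
      rw [← hGO]
      change (bcCone D c g₀).π.app φ (κ default) ∈ G
      rw [← Scheme.Hom.comp_apply, hκ3, Scheme.Hom.comp_apply]
      have : G.ι (m default) ∈ Set.range G.ι := ⟨_, rfl⟩
      rwa [G.range_ι] at this
    have h5 := hON hκ4 Ω' κ ξ (by rw [← Category.assoc, hκ1, hl']) rfl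
    refine (v.congr hκ1.symm _).trans (h5.trans ?_)
    exact τ0.congr hκ2 (by rw [Category.assoc, ← hQ, ← Category.assoc, hκ1, hl'])

include hc in
/-- The degree zero limit theorem: a local family on the limit comes from some `D j`. -/
theorem exists_ext [∀ i, QuasiSeparatedSpace (D.obj i)] (t : D ⟶ (Functor.const I).obj X)
    {q : c.pt ⟶ X} (hq : ∀ j, c.π.app j ≫ t.app j = q) {v : Fam F q} (hv : IsLoc v) :
    ∃ (j : I) (v' : Fam F (t.app j)), IsLoc v' ∧ v'.res (c.π.app j) (hq j) = v := by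
  classical
  have : CompactSpace c.pt := Scheme.compactSpace_of_isLimit D c hc
  choose j E e he hE τ hτ hz hcomp using fun z => exists_local_ext c hc t hq hv z
  -- finitely many of them cover
  let N : c.pt → Set c.pt := fun z => (c.π.app (j z)) ⁻¹' Set.range (e z)
  have hN : ∀ z, IsOpen (N z) := fun z =>
    (Scheme.Hom.isOpenMap (e z)).isOpen_range.preimage (c.π.app (j z)).continuous
  obtain ⟨S, hS⟩ := isCompact_univ.elim_finite_subcover N hN
    (fun z _ => Set.mem_iUnion.2 ⟨z, hz z⟩)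
  -- a common index
  obtain ⟨j₁, hj₁⟩ := IsCofiltered.inf_objs_exists (S.image j)
  have hj₁' : ∀ z : S, Nonempty (j₁ ⟶ j z) := fun z => hj₁ (Finset.mem_image_of_mem j z.2)
  let f₁ : ∀ z : S, j₁ ⟶ j z := fun z => (hj₁' z).some
  -- the covering condition
  let U : (D.obj j₁).Opens := ⟨⋃ z : S, (D.map (f₁ z)) ⁻¹' Set.range (e z),
    isOpen_iUnion fun z => (Scheme.Hom.isOpenMap (e z)).isOpen_range.preimage
      (D.map (f₁ z)).continuous⟩
  have hU : c.π.app j₁ ⁻¹ᵁ U = ⊤ := by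
    ext x
    simp only [TopologicalSpace.Opens.coe_top, Set.mem_univ, iff_true]
    obtain ⟨z, hzS, hx⟩ := Set.mem_iUnion₂.1 (hS (Set.mem_univ x))
    refine Set.mem_iUnion.2 ⟨⟨z, hzS⟩, ?_⟩
    change D.map (f₁ ⟨z, hzS⟩) (c.π.app j₁ x) ∈ Set.range (e z)
    rw [← Scheme.Hom.comp_apply, c.w]
    exact hx
  obtain ⟨j₂, f₂, hf₂⟩ := exists_map_eq_top D c hc U hU
  have htn : ∀ {x y : I} (f : x ⟶ y), D.map f ≫ t.app y = t.app x :=
    fun f => (t.naturality f).trans (Category.comp_id _)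
  -- agreement on overlaps
  have key : ∀ z z' : S, ∃ ψ : Over j₁, ∀ (Ω : Type u) [Field Ω] [IsSepClosed Ω]
      (l : Spec (.of Ω) ⟶ D.obj ψ.left) (m : Spec (.of Ω) ⟶ E z) (m' : Spec (.of Ω) ⟶ E z')
      (ξ : Spec (.of Ω) ⟶ X) (h : m ≫ e z ≫ t.app (j z) = ξ)
      (h' : m' ≫ e z' ≫ t.app (j z') = ξ)
      (_ : m ≫ e z = (l ≫ D.map ψ.hom) ≫ D.map (f₁ z))
      (_ : m' ≫ e z' = (l ≫ D.map ψ.hom) ≫ D.map (f₁ z')), τ z Ω m ξ h = τ z' Ω m' ξ h' := by
    intro z z'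
    let A : S → Scheme.{u} := fun z => pullback (D.map (f₁ z)) (e z)
    let a : ∀ z : S, A z ⟶ D.obj j₁ := fun z => pullback.fst (D.map (f₁ z)) (e z)
    let b : ∀ z : S, A z ⟶ E z := fun z => pullback.snd (D.map (f₁ z)) (e z)
    have hab : ∀ z, a z ≫ D.map (f₁ z) = b z ≫ e z := fun z => pullback.condition
    have hA : ∀ z, CompactSpace (A z) := fun z => by
      have := hE z
      exact QuasiCompact.compactSpace_of_compactSpace (b z)
    let B := pullback (a z) (a z')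
    have hB : CompactSpace B := by
      have := hA z
      have := hA z'
      have : QuasiCompact (a z) := quasiCompact_of_compactSpace (a z)
      infer_instance
    obtain ⟨g₀, hg₀⟩ : ∃ g₀ : B ⟶ D.obj j₁, g₀ = pullback.fst (a z) (a z') ≫ a z := ⟨_, rfl⟩
    have hg₀' : g₀ = pullback.snd (a z) (a z') ≫ a z' := by rw [hg₀, pullback.condition]
    have d1 : (pullback.fst (a z) (a z') ≫ b z) ≫ e z = g₀ ≫ D.map (f₁ z) := by
      rw [hg₀]
      simp only [Category.assoc]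
      rw [hab]
    have d2 : (pullback.snd (a z) (a z') ≫ b z') ≫ e z' = g₀ ≫ D.map (f₁ z') := by
      rw [hg₀']
      simp only [Category.assoc]
      rw [hab]
    have e1 : (pullback.fst (a z) (a z') ≫ b z) ≫ e z ≫ t.app (j z) = g₀ ≫ t.app j₁ := by
      rw [← htn (f₁ z), hg₀, Category.assoc, Category.assoc, ← Category.assoc (b z), ← hab,
        Category.assoc]
    have e2 : (pullback.snd (a z) (a z') ≫ b z') ≫ e z' ≫ t.app (j z') = g₀ ≫ t.app j₁ := by
      rw [← htn (f₁ z'), hg₀', Category.assoc, Category.assoc, ← Category.assoc (b z'), ← hab,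
        Category.assoc]
    let τ1 : Fam F (g₀ ≫ t.app j₁) := (τ z).res (pullback.fst (a z) (a z') ≫ b z) e1
    let τ2 : Fam F (g₀ ≫ t.app j₁) := (τ z').res (pullback.snd (a z) (a z') ≫ b z') e2
    have hτ1 : IsLoc τ1 := (hτ z).res _ _
    have hτ2 : IsLoc τ2 := (hτ z').res _ _
    have hagr := exists_agree (D := bc D g₀) (bcCone D c g₀) (bcIsLimit D c g₀ hc)
      (i := Over.mk (𝟙 j₁)) (hτ1.res (bcSnd D g₀ (Over.mk (𝟙 j₁))) rfl)
      (hτ2.res (bcSnd D g₀ (Over.mk (𝟙 j₁))) rfl) (by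
        ext Ω _ _ l ξ hl
        have h1 : (l ≫ (bcCone D c g₀).π.app (Over.mk (𝟙 j₁))) ≫ bcSnd D g₀ (Over.mk (𝟙 j₁)) =
            l ≫ bcPtSnd D c g₀ := by
          rw [Category.assoc, bcCone_π_snd]
        have h2 : l ≫ bcPtSnd D c g₀ ≫ g₀ = l ≫ bcPtFst D c g₀ ≫ c.π.app j₁ := by
          rw [(bcCone_isPullback₀ D c g₀).w]
        have h3 : (l ≫ bcPtSnd D c g₀) ≫ g₀ ≫ t.app j₁ = ξ := by
          rw [← h1, ← hl]
          simp only [Category.assoc]
        have h3' : (l ≫ bcPtFst D c g₀) ≫ q = ξ := by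
          rw [← hq j₁, ← h3]
          simp only [Category.assoc]
          rw [← Category.assoc (bcPtFst D c g₀), (bcCone_isPullback₀ D c g₀).w, Category.assoc]
        have h4 : v Ω (l ≫ bcPtFst D c g₀) ξ h3' = τ1 Ω (l ≫ bcPtSnd D c g₀) ξ h3 :=
          hcomp z Ω (l ≫ bcPtFst D c g₀)
            ((l ≫ bcPtSnd D c g₀) ≫ pullback.fst (a z) (a z') ≫ b z) ξ h3'
            (by rw [← h3, ← e1]; simp only [Category.assoc]) (by
              have : ((l ≫ bcPtSnd D c g₀) ≫ pullback.fst (a z) (a z') ≫ b z) ≫ e z =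
                  (l ≫ bcPtSnd D c g₀ ≫ g₀) ≫ D.map (f₁ z) := by
                rw [Category.assoc, d1]
                simp only [Category.assoc]
              rw [this, h2]
              simp only [Category.assoc]
              rw [c.w])
        have h5 : v Ω (l ≫ bcPtFst D c g₀) ξ h3' = τ2 Ω (l ≫ bcPtSnd D c g₀) ξ h3 :=
          hcomp z' Ω (l ≫ bcPtFst D c g₀)
            ((l ≫ bcPtSnd D c g₀) ≫ pullback.snd (a z) (a z') ≫ b z') ξ h3'
            (by rw [← h3, ← e2]; simp only [Category.assoc]) (by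
              have : ((l ≫ bcPtSnd D c g₀) ≫ pullback.snd (a z) (a z') ≫ b z') ≫ e z' =
                  (l ≫ bcPtSnd D c g₀ ≫ g₀) ≫ D.map (f₁ z') := by
                rw [Category.assoc, d2]
                simp only [Category.assoc]
              rw [this, h2]
              simp only [Category.assoc]
              rw [c.w])
        have h6 : ((l ≫ (bcCone D c g₀).π.app (Over.mk (𝟙 j₁))) ≫
            bcSnd D g₀ (Over.mk (𝟙 j₁))) ≫ g₀ ≫ t.app j₁ = ξ := by
          rw [h1, h3]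
        exact (τ1.congr h1 h6).trans ((h4.symm.trans h5).trans (τ2.congr h1.symm h3)))
    obtain ⟨ψ, f, hf⟩ := hagr
    refine ⟨ψ, ?_⟩
    intro Ω _ _ l m m' ξ h h' hm hm'
    let β : Spec (.of Ω) ⟶ B := pullback.lift (pullback.lift (l ≫ D.map ψ.hom) m hm.symm)
      (pullback.lift (l ≫ D.map ψ.hom) m' hm'.symm) (by
        simp only [a]
        rw [pullback.lift_fst, pullback.lift_fst])
    have hβ1 : β ≫ pullback.fst (a z) (a z') ≫ b z = m := by
      simp only [β, b]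
      rw [← Category.assoc, pullback.lift_fst, pullback.lift_snd]
    have hβ2 : β ≫ pullback.snd (a z) (a z') ≫ b z' = m' := by
      simp only [β, b]
      rw [← Category.assoc, pullback.lift_snd, pullback.lift_snd]
    have hβ3 : β ≫ g₀ = l ≫ D.map ψ.hom := by
      rw [hg₀, ← Category.assoc]
      simp only [β, a]
      rw [pullback.lift_fst, pullback.lift_fst]
    let μ : Spec (.of Ω) ⟶ (bc D g₀).obj ψ := (bc_isPullback₀ D g₀ ψ).lift l β hβ3.symm
    have hμ : μ ≫ bcSnd D g₀ ψ = β := (bc_isPullback₀ D g₀ ψ).lift_snd _ _ _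
    have hμ2 : (μ ≫ (bc D g₀).map f) ≫ bcSnd D g₀ (Over.mk (𝟙 j₁)) = β := by
      rw [Category.assoc, bc_map_snd, hμ]
    have h6 := Fam.congr_fun hf μ (ξ := β ≫ g₀ ≫ t.app j₁) (by
      rw [← hμ2]
      simp only [Category.assoc])
    have h7 : β ≫ g₀ ≫ t.app j₁ = ξ := by
      rw [← e1, ← h, ← hβ1]
      simp only [Category.assoc]
    subst h7
    have h8 : τ1 Ω β _ rfl = τ2 Ω β _ rfl :=
      (τ1.congr hμ2.symm rfl).trans (h6.trans (τ2.congr hμ2 (by rw [hμ2])))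
    exact ((τ z).congr hβ1.symm h).trans (h8.trans ((τ z').congr hβ2 (by rw [hβ2, h'])))
  choose ψ hψ using key
  -- a common refinement of `j₂` and the `ψ z z'`
  obtain ⟨Φ, hΦ⟩ := IsCofiltered.inf_objs_exists
    (insert (Over.mk f₂) (Finset.univ.image (fun zz : S × S => ψ zz.1 zz.2)))
  obtain ⟨p₂⟩ := hΦ (Finset.mem_insert_self (Over.mk f₂) _)
  have hΦ' : ∀ z z', Nonempty (Φ ⟶ ψ z z') := fun z z' => hΦ (Finset.mem_insert_of_mem
    (Finset.mem_image.2 ⟨(z, z'), Finset.mem_univ _, rfl⟩))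
  obtain ⟨v', hv', hvv'⟩ := exists_glue (F := F) (t.app Φ.left) (fun z : S => D.obj (j z))
    (fun z : S => E z) (fun z => D.map (Φ.hom ≫ f₁ z)) (fun z => e z) (fun z => t.app (j z))
    (fun z => htn _) (fun z => τ z) (fun z => hτ z) (by
      intro x
      have hx : D.map Φ.hom x ∈ U := by
        have h1 : D.map Φ.hom x = D.map f₂ (D.map p₂.left x) := by
          rw [← Scheme.Hom.comp_apply, ← D.map_comp]
          have : p₂.left ≫ f₂ = Φ.hom := Over.w p₂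
          rw [this]
        rw [h1]
        have h2 : D.map p₂.left x ∈ D.map f₂ ⁻¹ᵁ U := by rw [hf₂]; trivial
        exact h2
      obtain ⟨z, hz⟩ := Set.mem_iUnion.1 hx
      refine ⟨z, ?_⟩
      rw [D.map_comp, Scheme.Hom.comp_apply]
      exact hz) (by
      intro z z' Ω _ _ l m m' ξ h h' hm hm'
      obtain ⟨p⟩ := hΦ' z z'
      have hp : D.map p.left ≫ D.map (ψ z z').hom = D.map Φ.hom := by
        rw [← D.map_comp, Over.w p]
      refine hψ z z' Ω (l ≫ D.map p.left) m m' ξ h h' ?_ ?_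
      · rw [hm, D.map_comp, ← hp]; simp only [Category.assoc]
      · rw [hm', D.map_comp, ← hp]; simp only [Category.assoc])
  refine ⟨Φ.left, v', hv', ?_⟩
  ext Ω _ _ l ξ hl
  obtain ⟨z, hzS, x, hx⟩ := Set.mem_iUnion₂.1 (hS (Set.mem_univ (l default)))
  obtain ⟨m, hm, -⟩ := exists_lift (e z) (l ≫ c.π.app (j z)) x hx
  have h1 : m ≫ e z ≫ t.app (j z) = ξ := by
    rw [← Category.assoc, hm, Category.assoc, hq, hl]
  refine Eq.trans ?_ (hcomp z Ω l m ξ hl h1 hm).symm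
  refine hvv' ⟨z, hzS⟩ Ω (l ≫ c.π.app Φ.left) m ξ _ h1 ?_
  rw [hm, Category.assoc, c.w]

end Groth.Agent.Etbc.H184.LimSecSh
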