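import Groth.Agent.Etbc.H184.ConnSh
import Groth.Agent.Etbc.H184.LimSecSh
import Groth.Agent.Etbc.H184.GenSubm
import Groth.Agent.Etbc.H186.BCCritSh
import Groth.Agent.EtpbcB.Psi
import Groth.Agent.EtpbcB.BCStrict

/-!
# Degree zero base change for sheaves of sets from the fibres of strict localizations

`isIso_baseChange0Sh_of_strict` : for `f : X ⟶ S` such that the morphisms
`Spec O_X^sh ⟶ Spec O_S^sh` of strict localizations are universally submersive with connected geometric fibres,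
and `g : T ⟶ S` quasi-compact and quasi-separated, the degree zero base change map for sheaves of sets is an
isomorphism.  (Version for sheaves of sets, without flatness, of `Groth.Agent.EtpbcB.BCStrict`.)
-/

set_option autoImplicit false
set_option backward.isDefEq.respectTransparency.types false
universe u
open CategoryTheory CategoryTheory.Limits AlgebraicGeometry Opposite

namespace Groth.Agent.Etbc.H184.BCStrictSh

open EtDesc Groth.Agent.Etbc.H184.FamSh Groth.Agent.EtpbcB.StrictLoc Groth.Agent.EtpbcB.Psi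
open Groth.Agent.EtpbcB.BCCrit (kap kap_hom kap_fst theta)
open Groth.Agent.EtpbcB.BCStrict (kap_comp kap_comp' exists_fibre P P_fst P_snd P_fst_assoc P_snd_assoc
  isPullback_P LX LX_fst LX_hom LX_kap LX_map exists_common tau connected_P)
open Groth.Agent.EtpbcB.Big (etHom et_hom_ext et_w exists_lift bcFst bc_condition hom_ext_bc bcPt bcPt_fst
  bcPt_hom bc_map_fst)
open Groth.Agent.Sga4A.EtStalk (exists_geomPoint germ)
open Groth.Agent.Etbc.H192.ZeroAcyc (SepGeomConnected)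

variable {X S Y T : Scheme.{u}} {f : X ⟶ S} {g : T ⟶ S} {h : Y ⟶ X} {e : Y ⟶ T}

theorem res_eq_res {X Z Z' Z₁ Z₂ : Scheme.{u}} {F : Sh X} {q₁ : Z₁ ⟶ X} {q₂ : Z₂ ⟶ X}
    {v : Fam F q₁} {w : Fam F q₂} {A' : Z ⟶ Z₁} {B' : Z ⟶ Z₂} {q : Z ⟶ X} {hA' : A' ≫ q₁ = q}
    {hB' : B' ≫ q₂ = q} {M : Z' ⟶ Z} {q' q'' : Z' ⟶ X} {hM : M ≫ q = q'}
    (h : (v.res A' hA').res M hM = (w.res B' hB').res M hM) {A : Z' ⟶ Z₁} {B : Z' ⟶ Z₂}
    (hA : A ≫ q₁ = q'') (hB : B ≫ q₂ = q'') (eA : M ≫ A' = A) (eB : M ≫ B' = B) :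
    v.res A hA = w.res B hB := by
  subst eA eB hM hA'
  ext Ω _ _ l ξ hl
  have h1 := Fam.congr_fun h l (ξ := ξ) (by rw [← hl, ← hA]; simp only [Category.assoc])
  refine Eq.trans ?_ (h1.trans ?_)
  · exact v.congr (Category.assoc _ _ _).symm _
  · exact w.congr (Category.assoc _ _ _) _

theorem res_comp_congr {X Z Z' Z₁ Z₂ : Scheme.{u}} {F : Sh X} {q₁ : Z₁ ⟶ X} {q₂ : Z₂ ⟶ X}
    {v : Fam F q₁} {w : Fam F q₂} {A : Z ⟶ Z₁} {B : Z ⟶ Z₂} {q : Z ⟶ X} {hA : A ≫ q₁ = q}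
    {hB : B ≫ q₂ = q} (h : v.res A hA = w.res B hB) (M : Z' ⟶ Z) {q' : Z' ⟶ X} 
    {A' : Z' ⟶ Z₁} {B' : Z' ⟶ Z₂} (hA' : A' ≫ q₁ = q') (hB' : B' ≫ q₂ = q')
    (eA : M ≫ A = A') (eB : M ≫ B = B') : v.res A' hA' = w.res B' hB' := by
  subst eA eB hA
  ext Ω _ _ l ξ hl
  have h1 := Fam.congr_fun h (l ≫ M) (ξ := ξ) (by rw [← hl, ← hA']; simp only [Category.assoc])
  refine Eq.trans ?_ (h1.trans ?_)
  · exact v.congr (Category.assoc _ _ _).symm _
  · exact w.congr (Category.assoc _ _ _) _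

/-- Local families which agree after pulling back along a surjective morphism are equal. -/
theorem eq_of_surjective {X Z Z' : Scheme.{u}} {F : Sh X} {q : Z ⟶ X} {v v' : Fam F q}
    (hv : IsLoc v) (hv' : IsLoc v') (p : Z' ⟶ Z) [Surjective p] {q' : Z' ⟶ X} (hp : p ≫ q = q')
    (h : v.res p hp = v'.res p hp) : v = v' := by
  refine eq_of_agree fun z => ?_
  obtain ⟨z', rfl⟩ := p.surjective z
  have h1 := hv.agree_res hv' p hp
  have h2 : z' ∈ agree (v.res p hp) (v'.res p hp) := by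
    rw [h]
    intro Ω _ _ l ξ hl _
    rfl
  rw [h1] at h2
  exact h2

section Core

variable {Ω : Type u} [Field Ω] [IsSepClosed Ω] (ξ : Spec (CommRingCat.of Ω) ⟶ X)
variable (H : IsPullback e h g f) (F : Sh T)

/-- `P` has connected geometric fibres if `psi` has. -/
theorem sepGeomConnected_P (hψ : SepGeomConnected (psi f ξ)) : SepGeomConnected (P ξ H) := by
  intro Ω' _ _ η
  have h1 := (IsPullback.of_hasPullback η (P ξ H)).flip.paste_horiz (isPullback_P ξ H)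
  have h2 := hψ Ω' (η ≫ pullback.snd g (toBase (ξ ≫ f)))
  have e1 : pullback η (P ξ H) ≅ pullback (η ≫ pullback.snd g (toBase (ξ ≫ f))) (psi f ξ) :=
    h1.isoPullback ≪≫ pullbackSymmetry _ _
  exact (Scheme.homeoOfIso e1.symm).surjective.connectedSpace (Scheme.homeoOfIso e1.symm).continuous

/-- A local family on `Y ×_X U` comes, near a given point of `U`, from a section over `T ×_S V`. -/
theorem hsurj_strict [QuasiCompact g] [QuasiSeparated g]
    (hs : IsUnivSubmersive (psi f ξ)) (hψ : SepGeomConnected (psi f ξ))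
    (U : X.Etale) (v : Fam F (((EtCoh.bc h).obj U).hom ≫ e)) (hv : IsLoc v)
    (l : Spec (CommRingCat.of Ω) ⟶ U.left) (hl : l ≫ U.hom = ξ) :
    ∃ (V : S.Etale) (U' : X.Etale) (a : U' ⟶ U) (b : U' ⟶ (EtCoh.bc f).obj V)
        (σ : sect F ((EtCoh.bc g).obj V)) (y' : U'.left), a.left y' = l default ∧
        v.res ((EtCoh.bc h).map a).left (by rw [← Category.assoc, et_w]) =
          (fam σ).res (kap g f h e H.w b) (kap_hom g f h e H.w b) := by
  have hqc : QuasiCompact h := MorphismProperty.of_isPullback (P := @QuasiCompact) H ‹_›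
  have hqs : QuasiSeparated h := MorphismProperty.of_isPullback (P := @QuasiSeparated) H ‹_›
  have hPs : Groth.Agent.Sga4A.EtStalk.EtSubmersive (P ξ H) :=
    Groth.Agent.Sga4A.EtStalk.etSubmersive_of_isUnivSubmersive _
      (GenSubm.isUnivSubmersive_of_isPullback (isPullback_P ξ H) hs)
  obtain ⟨i₁, m, hm⟩ := exists_dom ξ U l hl
  -- the restriction to `Y ×_X Spec O_X^sh`
  have eA : (LX ξ h i₁ ≫ ((EtCoh.bc h).map m).left) ≫ ((EtCoh.bc h).obj U).hom ≫ e =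
      pullback.fst h (toBase ξ) ≫ e := by
    rw [← Category.assoc, Category.assoc (LX ξ h i₁), et_w, LX_hom]
  obtain ⟨vS, hvS, hvS'⟩ := ConnSh.exists_of_connected (P ξ H) hPs (sepGeomConnected_P ξ H hψ)
    (P_fst ξ H) (v.res _ eA) (hv.res _ eA)
  obtain ⟨j, v', hv', hvv'⟩ := LimSecSh.exists_ext
    (coneX (ξ ≫ f) g (IsPullback.of_hasPullback g (toBase (ξ ≫ f))))
    (isLimitConeX (ξ ≫ f) g (IsPullback.of_hasPullback g (toBase (ξ ≫ f))))
    (tau (ξ ≫ f) g) (fun j => LX_hom (ξ ≫ f) j) hvS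
  obtain ⟨σ, hσ⟩ := exists_fam (U := (EtCoh.bc g).obj ((D (ξ ≫ f)).obj j)) v' hv'
  -- a common étale neighbourhood of `ξ`
  obtain ⟨l₂, hl₂, hl₂'⟩ : ∃ l₂ : Spec (CommRingCat.of Ω) ⟶
        ((EtCoh.bc f).obj ((D (ξ ≫ f)).obj j)).left,
      l₂ ≫ bcFst f ((D (ξ ≫ f)).obj j) = lft (ξ ≫ f) j ∧
      l₂ ≫ ((EtCoh.bc f).obj ((D (ξ ≫ f)).obj j)).hom = ξ :=
    ⟨bcPt f ξ (lft (ξ ≫ f) j) (lft_hom _ _), bcPt_fst f _ _ _, bcPt_hom f _ _ _⟩
  obtain ⟨i₂, n, n', hn, hn'⟩ :=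
    exists_common ξ U ((EtCoh.bc f).obj ((D (ξ ≫ f)).obj j)) l hl l₂ hl₂'
  have hn2 : lft ξ i₂ ≫ n'.left ≫ bcFst f ((D (ξ ≫ f)).obj j) =
      lft (ξ ≫ f) j ≫ (𝟙 ((D (ξ ≫ f)).obj j) : _ ⟶ _).left := by
    refine Eq.trans ?_ (Category.comp_id _).symm
    rw [← hl₂, ← hn', Category.assoc]
  have hagree : (v.res ((EtCoh.bc h).map n).left (q' := ((EtCoh.bc h).obj ((D ξ).obj i₂)).hom ≫ e)
      (by rw [← Category.assoc, et_w])).res (LX ξ h i₂) rfl =
      ((fam σ).res (kap g f h e H.w n') (kap_hom g f h e H.w n')).res (LX ξ h i₂) rfl := by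
    have e1 : LX ξ h i₂ ≫ kap g f h e H.w n' = P ξ H ≫ LX (ξ ≫ f) g j := by
      rw [LX_kap ξ H n' (𝟙 _) hn2]
      refine congrArg (P ξ H ≫ ·) ?_
      rw [CategoryTheory.Functor.map_id]
      exact Category.comp_id _
    have e2 : LX ξ h i₂ ≫ ((EtCoh.bc h).map n).left = LX ξ h i₁ ≫ ((EtCoh.bc h).map m).left :=
      LX_map ξ n m (hn.trans hm.symm)
    have e3 : v.res (LX ξ h i₁ ≫ ((EtCoh.bc h).map m).left) eA =
      (fam σ).res (P ξ H ≫ LX (ξ ≫ f) g j) (by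
        rw [Category.assoc, LX_hom, P_fst]) := by
      rw [← hvS', ← hvv', hσ]
      ext Ω _ _ l ξ hl
      exact v'.congr (Category.assoc _ _ _) _
    ext Ω' _ _ l' ξ' hl''
    have h1 := Fam.congr_fun e3 l' (ξ := ξ') (by
      rw [← hl'', ← Category.assoc (LX ξ h i₂), LX_hom])
    refine (v.congr ?_ _).trans (h1.trans ((fam σ).congr ?_ _))
    · rw [Category.assoc, e2]
    · rw [Category.assoc, e1]
  obtain ⟨i₃, g₃, hg₃⟩ := LimSecSh.exists_agree
    (coneX ξ h (IsPullback.of_hasPullback h (toBase ξ)))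
    (isLimitConeX ξ h (IsPullback.of_hasPullback h (toBase ξ)))
    (hv.res _ _) ((isLoc_fam σ).res _ _) hagree
  refine ⟨(D (ξ ≫ f)).obj j, (D ξ).obj i₃, (D ξ).map g₃ ≫ n, (D ξ).map g₃ ≫ n', σ,
    lft ξ i₃ default, ?_, ?_⟩
  · have h1 : lft ξ i₃ ≫ ((D ξ).map g₃ ≫ n).left = l := by
      rw [← hn, ← lft_map ξ g₃, Category.assoc]
      rfl
    rw [← h1]
    rfl
  · exact res_eq_res hg₃ _ _ (by rw [Functor.map_comp]; rfl) (kap_comp H.w _ _).symm

/-- Local injectivity of the base change map. -/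
theorem hinj_strict [QuasiCompact g]
    (hsurj : Surjective (psi f ξ))
    (V : S.Etale) (σ τ : sect F ((EtCoh.bc g).obj V)) (U : X.Etale)
    (b : U ⟶ (EtCoh.bc f).obj V)
    (hσ : (fam σ).res (kap g f h e H.w b) (kap_hom g f h e H.w b) =
        (fam τ).res (kap g f h e H.w b) (kap_hom g f h e H.w b))
    (l : Spec (CommRingCat.of Ω) ⟶ U.left) (hl : l ≫ U.hom = ξ) :
    ∃ (V' : S.Etale) (c : V' ⟶ V) (U' : X.Etale) (a : U' ⟶ U)
        (b' : U' ⟶ (EtCoh.bc f).obj V') (y' : U'.left), a.left y' = l default ∧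
        a ≫ b = b' ≫ (EtCoh.bc f).map c ∧
        F.obj.map ((EtCoh.bc g).map c).op σ = F.obj.map ((EtCoh.bc g).map c).op τ := by
  have hPs : Surjective (P ξ H) :=
    MorphismProperty.of_isPullback (P := @Surjective) (isPullback_P ξ H) hsurj
  -- the étale neighbourhoods
  obtain ⟨j, c, hc⟩ := exists_dom (ξ ≫ f) V (l ≫ b.left ≫ bcFst f V) (by
    rw [Category.assoc, Category.assoc, bc_condition, ← Category.assoc b.left, et_w,
      ← Category.assoc l, hl])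
  obtain ⟨i, n, hn⟩ := exists_dom ξ U l hl
  have hbc : lft ξ i ≫ (n ≫ b).left ≫ bcFst f V = lft (ξ ≫ f) j ≫ c.left := by
    rw [hc, ← hn]
    simp only [Category.assoc]
    rfl
  have hk := LX_kap ξ H (n ≫ b) c hbc
  rw [kap_comp] at hk
  -- the two families on `T ×_S D j`
  have h0 : (fam σ).res (LX (ξ ≫ f) g j ≫ ((EtCoh.bc g).map c).left) (by
      rw [Category.assoc, et_w, LX_hom]) =
      (fam τ).res (LX (ξ ≫ f) g j ≫ ((EtCoh.bc g).map c).left)
      (by rw [Category.assoc, et_w, LX_hom]) := by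
    refine eq_of_surjective ((isLoc_fam σ).res _ _) ((isLoc_fam _).res _ _) (P ξ H) rfl ?_
    rw [Fam.res_res, Fam.res_res]
    refine res_comp_congr hσ (LX ξ h i ≫ ((EtCoh.bc h).map n).left) _ _ ?_ ?_
    · rw [Category.assoc, hk]
    · rw [Category.assoc, hk]
  have h1 : ((fam σ).res ((EtCoh.bc g).map c).left (et_w _)).res (LX (ξ ≫ f) g j) rfl =
      ((fam τ).res ((EtCoh.bc g).map c).left (et_w _)).res
        (LX (ξ ≫ f) g j) rfl := by
    rw [Fam.res_res, Fam.res_res]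
    exact res_comp_congr h0 (𝟙 _) _ _ (Category.id_comp _) (Category.id_comp _)
  obtain ⟨j', g', hg'⟩ := LimSecSh.exists_agree
    (coneX (ξ ≫ f) g (IsPullback.of_hasPullback g (toBase (ξ ≫ f))))
    (isLimitConeX (ξ ≫ f) g (IsPullback.of_hasPullback g (toBase (ξ ≫ f))))
    ((isLoc_fam σ).res _ _) ((isLoc_fam _).res _ _) h1
  have hc' : lft (ξ ≫ f) j' ≫ ((D (ξ ≫ f)).map g' ≫ c).left = l ≫ b.left ≫ bcFst f V := by
    rw [← hc, ← lft_map (ξ ≫ f) g', Category.assoc]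
    rfl
  obtain ⟨c', hcc'⟩ : ∃ c', c' = (D (ξ ≫ f)).map g' ≫ c := ⟨_, rfl⟩
  rw [← hcc'] at hc'
  -- the fibre product
  let l₂ : Spec (CommRingCat.of Ω) ⟶ ((EtCoh.bc f).obj ((D (ξ ≫ f)).obj j')).left :=
    bcPt f ξ (lft (ξ ≫ f) j') (lft_hom _ _)
  have hl₂ : l₂ ≫ bcFst f ((D (ξ ≫ f)).obj j') = lft (ξ ≫ f) j' := bcPt_fst f _ _ _
  have hl₂' : l₂ ≫ ((EtCoh.bc f).obj ((D (ξ ≫ f)).obj j')).hom = ξ := bcPt_hom f _ _ _
  have hll : l ≫ b.left = l₂ ≫ ((EtCoh.bc f).map c').left := by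
    apply hom_ext_bc f
    · rw [Category.assoc, Category.assoc, bc_map_fst, ← Category.assoc l₂, hl₂, hc']
    · rw [Category.assoc, Category.assoc, et_w, et_w, hl, hl₂']
  obtain ⟨U', a, b', y', hy', hab⟩ := exists_fibre b ((EtCoh.bc f).map c') l l₂ hll
  refine ⟨(D (ξ ≫ f)).obj j', c', U', a, b', y', hy', hab, ?_⟩
  · apply fam_ext
    rw [fam_map, fam_map]
    refine res_eq_res hg' _ _ ?_ ?_
    · rw [hcc', Functor.map_comp]; rfl
    · rw [hcc', Functor.map_comp]; rfl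

end Core

/-- Degree zero base change for sheaves of sets: `f` such that the maps of strict localizations are
universally submersive with connected geometric fibres, `g` quasi-compact and quasi-separated. -/
theorem isIso_baseChange0Sh_of_strict (H : IsPullback e h g f) [QuasiCompact g]
    [QuasiSeparated g]
    (hs : ∀ (Ω : Type u) [Field Ω] [IsSepClosed Ω] (ξ : Spec (CommRingCat.of Ω) ⟶ X),
      IsUnivSubmersive (psi f ξ))
    (hψ : ∀ (Ω : Type u) [Field Ω] [IsSepClosed Ω] (ξ : Spec (CommRingCat.of Ω) ⟶ X),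
      SepGeomConnected (psi f ξ))
    (F : Sh T) : IsIso (EtBC.baseChange0Sh g f h e H.w F) := by
  refine Groth.Agent.Etbc.H186.BCCritSh.isIso_baseChange0Sh_of_fam g f h e H.w F ?_ ?_
  · intro V σ τ U b hσ y
    obtain ⟨Ω, _, _, l, hl⟩ := exists_geomPoint U.left y
    rw [← hl]
    have h1 : Surjective (psi f (l ≫ U.hom)) := ⟨by
      have h2 := (hs Ω (l ≫ U.hom) _ (𝟙 _)).1
      intro x
      obtain ⟨y, hy⟩ := h2 x
      refine ⟨pullback.fst (psi f (l ≫ U.hom)) (𝟙 _) y, ?_⟩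
      rw [← Scheme.Hom.comp_apply, pullback.condition, Category.comp_id]
      exact hy⟩
    refine hinj_strict (l ≫ U.hom) H F h1 V σ τ U b ?_ l rfl
    ext Ω' _ _ l' ξ' hl'
    exact hσ Ω' l' ξ' _
  · intro U γ y
    obtain ⟨Ω, _, _, l, hl⟩ := exists_geomPoint U.left y
    rw [← hl]
    obtain ⟨V, U', a, b, σ, y', hy', hr⟩ := hsurj_strict (l ≫ U.hom) H F (hs Ω (l ≫ U.hom))
      (hψ Ω (l ≫ U.hom)) U (ofFam γ) (isLoc_ofFam γ) l rfl
    refine ⟨V, U', a, b, σ, y', hy', ?_⟩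
    intro Ω' _ _ l' ξ' h1 h2
    exact Fam.congr_fun hr l' (ξ := ξ') (by
      rw [← h1, Category.assoc, ← Category.assoc ((EtCoh.bc h).map a).left, et_w])

end Groth.Agent.Etbc.H184.BCStrictSh
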