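import Groth.Agent.Etbc.H184.FamSh
import Groth.Agent.Etbc.H192.ZeroAcyc

/-!
# Descent of local families along submersive morphisms with connected geometric fibres
-/

set_option autoImplicit false
set_option backward.isDefEq.respectTransparency.types false
universe u

open CategoryTheory CategoryTheory.Limits AlgebraicGeometry Opposite

namespace Groth.Agent.Etbc.H184.ConnSh

open EtDesc Groth.Agent.Etbc.H184.FamSh
open Groth.Agent.Etbc.H192.ZeroAcyc
open Groth.Agent.Sga4A.EtStalk (EtSubmersive pullStk' germTop_secPull')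

variable {X : Scheme.{u}} {F : Sh X}

/-- Local families descend along submersive morphisms with connected geometric fibres. -/
theorem exists_of_connected {Z Z' : Scheme.{u}} (p : Z' ⟶ Z) (hs : EtSubmersive p)
    (hc : SepGeomConnected p) {q : Z ⟶ X} {q' : Z' ⟶ X} (hp : p ≫ q = q') (v : Fam F q')
    (hv : IsLoc v) : ∃ v' : Fam F q, IsLoc v' ∧ v'.res p hp = v := by
  subst hp
  let G := (pullSh q).obj F
  let γ := toFam v hv
  obtain ⟨s', hs'⟩ := Groth.Agent.Sga4A.EtStalk.Fam.exists_topSect (F := G) (g := p) γ.toPull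
  obtain ⟨s, hs⟩ := (secPull_bijective_of_connected hs hc G).2 s'
  refine ⟨ofFam (Groth.Agent.Sga4A.EtStalk.Fam.ofTopSect s), isLoc_ofFam _, ?_⟩
  ext Ω _ _ z ξ h'
  have h : (z ≫ p) ≫ q = ξ := by rw [Category.assoc, h']
  have key : (Groth.Agent.Sga4A.EtStalk.Fam.ofTopSect s).val (z ≫ p) ξ h = γ.val z ξ h' := by
    apply (pullStk' q F (z ≫ p) ξ h).injective
    rw [Groth.Agent.Sga4A.EtStalk.Fam.ofTopSect_val s (z ≫ p) ξ h]
    apply (pullStk' p G z (z ≫ p) rfl).injective
    rw [← germTop_secPull' p G s z (z ≫ p) rfl, hs, hs' z (z ≫ p) rfl,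
      Groth.Agent.Sga4A.EtStalk.Fam.toPull_val γ z (z ≫ p) ξ rfl h h']
  exact key

end Groth.Agent.Etbc.H184.ConnSh
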