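import Groth.Agent.Sga4A.EtFam
import Groth.Agent.EtpbcB.Big

/-!
# The big étale sheaf attached to an étale sheaf of sets, via germs

For `F : EtDesc.Sh X` and `q : Z ⟶ X`, `Fam F q` is the set of families of elements of the stalks of
`F` at the geometric points of `Z`; `IsLoc v` says that the family is étale locally on `Z` induced by
a section of `F`.  This is the version for sheaves of sets of `Groth.Agent.EtpbcB.BigFam` (same names),
and `toFam` compares it with the bundled version `Groth.Agent.Sga4A.EtStalk.Fam`.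
-/

set_option autoImplicit false
set_option backward.isDefEq.respectTransparency.types false
universe u

open CategoryTheory CategoryTheory.Limits AlgebraicGeometry Opposite

namespace Groth.Agent.Etbc.H184.FamSh

open EtDesc
open Groth.Agent.Sga4A.EtStalk (Stk germ germ_eq_iff germ_res germ_res' exists_germ exists_geomPoint
  castStk castStk_germ castStk_injective sect_ext_germ' exists_glue)
open Groth.Agent.EtpbcB.Big (etHom etHom_left et_hom_ext et_w exists_lift)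

variable {X : Scheme.{u}} (F : Sh X)

/-- Families of elements of the stalks of `F` at the geometric points of `Z`. -/
def Fam {Z : Scheme.{u}} (q : Z ⟶ X) : Type (u + 1) :=
  ∀ (Ω : Type u) [Field Ω] [IsSepClosed Ω] (l : Spec (.of Ω) ⟶ Z) (ξ : Spec (.of Ω) ⟶ X)
    (_ : l ≫ q = ξ), Stk F ξ

variable {F}

/-- Pullback of families. -/
noncomputable def Fam.res {Z Z' : Scheme.{u}} {q : Z ⟶ X} (v : Fam F q) (r : Z' ⟶ Z) {q' : Z' ⟶ X}
    (h : r ≫ q = q') : Fam F q' :=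
  fun Ω _ _ l ξ hl => v Ω (l ≫ r) ξ (by rw [Category.assoc, h, hl])

theorem Fam.congr {Z : Scheme.{u}} {q : Z ⟶ X} (v : Fam F q) {Ω : Type u} [Field Ω]
    [IsSepClosed Ω] {l l' : Spec (.of Ω) ⟶ Z} (e : l = l') {ξ : Spec (.of Ω) ⟶ X} (h : l ≫ q = ξ) :
    v Ω l ξ h = v Ω l' ξ (by rw [← e, h]) := by
  subst e
  rfl

@[ext]
theorem Fam.ext {Z : Scheme.{u}} {q : Z ⟶ X} {v v' : Fam F q}
    (h : ∀ (Ω : Type u) [Field Ω] [IsSepClosed Ω] (l : Spec (.of Ω) ⟶ Z) (ξ : Spec (.of Ω) ⟶ X)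
    (hl : l ≫ q = ξ), v Ω l ξ hl = v' Ω l ξ hl) : v = v' := by
  funext Ω _ _ l ξ hl
  exact h Ω l ξ hl

theorem Fam.congr_fun {Z : Scheme.{u}} {q : Z ⟶ X} {v v' : Fam F q} (e : v = v') {Ω : Type u}
    [Field Ω] [IsSepClosed Ω] (l : Spec (.of Ω) ⟶ Z) {ξ : Spec (.of Ω) ⟶ X} (h : l ≫ q = ξ) :
    v Ω l ξ h = v' Ω l ξ h := by
  subst e
  rfl

theorem Fam.res_apply {Z Z' : Scheme.{u}} {q : Z ⟶ X} (v : Fam F q) (r : Z' ⟶ Z) {q' : Z' ⟶ X}
    (h : r ≫ q = q') {Ω : Type u} [Field Ω] [IsSepClosed Ω] (l : Spec (.of Ω) ⟶ Z')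
    {ξ : Spec (.of Ω) ⟶ X} (hl : l ≫ q' = ξ) :
    v.res r h Ω l ξ hl = v Ω (l ≫ r) ξ (by rw [Category.assoc, h, hl]) := rfl

theorem Fam.res_res {Z Z' Z'' : Scheme.{u}} {q : Z ⟶ X} (v : Fam F q) (r : Z' ⟶ Z) {q' : Z' ⟶ X}
    (h : r ≫ q = q') (r' : Z'' ⟶ Z') {q'' : Z'' ⟶ X} (h' : r' ≫ q' = q'') :
    (v.res r h).res r' h' = v.res (r' ≫ r) (by rw [Category.assoc, h, h']) := by
  ext Ω _ _ l ξ hl
  exact v.congr (Category.assoc _ _ _) _

theorem Fam.res_congr {Z Z' : Scheme.{u}} {q : Z ⟶ X} (v : Fam F q) {r r' : Z' ⟶ Z} {q' : Z' ⟶ X}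
    (h : r ≫ q = q') (e : r = r') : v.res r h = v.res r' (by rw [← e, h]) := by
  subst e
  rfl

/-- The family of germs of a section. -/
noncomputable def fam {V : X.Etale} (σ : sect F V) : Fam F V.hom :=
  fun Ω _ _ l ξ h => germ F (U := V) (Ω := Ω) (ξ := ξ) l h σ

theorem fam_apply {V : X.Etale} (σ : sect F V) {Ω : Type u} [Field Ω] [IsSepClosed Ω]
    (l : Spec (.of Ω) ⟶ V.left) (ξ : Spec (.of Ω) ⟶ X) (h : l ≫ V.hom = ξ) :
    fam σ Ω l ξ h = germ F l h σ := rfl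

theorem fam_map {V W : X.Etale} (g : W ⟶ V) (σ : sect F V) :
    fam (F.obj.map g.op σ) = (fam σ).res g.left (et_w g) := by
  ext Ω _ _ l ξ hl
  exact germ_res F g l hl σ

/-- A family is local if it is étale locally on the source induced by a section of `F`. -/
def IsLoc {Z : Scheme.{u}} {q : Z ⟶ X} (v : Fam F q) : Prop :=
  ∀ z : Z, ∃ (W : Scheme.{u}) (a : W ⟶ Z) (_ : Etale a) (w : W) (V : X.Etale) (b : W ⟶ V.left)
    (hb : b ≫ V.hom = a ≫ q) (σ : sect F V), a w = z ∧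
      v.res a rfl = (fam σ).res b hb

theorem isLoc_fam {V : X.Etale} (σ : sect F V) : IsLoc (fam σ) := fun z =>
  ⟨V.left, 𝟙 _, inferInstance, z, V, 𝟙 _, rfl, σ, rfl, rfl⟩

theorem IsLoc.res {Z Z' : Scheme.{u}} {q : Z ⟶ X} {v : Fam F q} (hv : IsLoc v) (r : Z' ⟶ Z)
    {q' : Z' ⟶ X} (h : r ≫ q = q') : IsLoc (v.res r h) := by
  intro z'
  obtain ⟨W, a, ha, w, V, b, hb, σ, hw, hσ⟩ := hv (r z')
  obtain ⟨p, hp1, hp2⟩ := Scheme.Pullback.exists_preimage_pullback (f := a) (g := r) w z' hw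
  have e : pullback.snd a r ≫ q' = (pullback.fst a r ≫ a) ≫ q := by
    rw [← h, ← Category.assoc, ← pullback.condition]
  refine ⟨pullback a r, pullback.snd a r, inferInstance, p, V, pullback.fst a r ≫ b, ?_, σ, hp2, ?_⟩
  · rw [Category.assoc, hb, e, Category.assoc]
  · have h1 : (v.res r h).res (pullback.snd a r) rfl = (v.res a rfl).res (pullback.fst a r)
        (show pullback.fst a r ≫ a ≫ q = pullback.snd a r ≫ q' by rw [e, Category.assoc]) := by
      rw [Fam.res_res, Fam.res_res]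
      exact Fam.res_congr v _ pullback.condition.symm
    rw [h1, hσ, Fam.res_res]

/-- If two local families agree at one geometric point, they agree at all geometric points
in a neighbourhood of its image. -/
theorem IsLoc.exists_nhd {Z : Scheme.{u}} {q : Z ⟶ X} {v v' : Fam F q} (hv : IsLoc v)
    (hv' : IsLoc v') {Ω : Type u} [Field Ω] [IsSepClosed Ω] (l : Spec (.of Ω) ⟶ Z)
    (ξ : Spec (.of Ω) ⟶ X) (h : l ≫ q = ξ) (hl : v Ω l ξ h = v' Ω l ξ h) :
    ∃ N : Set Z, IsOpen N ∧ l default ∈ N ∧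
      ∀ (Ω' : Type u) [Field Ω'] [IsSepClosed Ω'] (l' : Spec (.of Ω') ⟶ Z)
        (ξ' : Spec (.of Ω') ⟶ X) (h' : l' ≫ q = ξ'), l' default ∈ N →
        v Ω' l' ξ' h' = v' Ω' l' ξ' h' := by
  obtain ⟨W, a, ha, w, V, b, hb, σ, hw, hσ⟩ := hv (l default)
  obtain ⟨W', a', ha', w', V', b', hb', σ', hw', hσ'⟩ := hv' (l default)
  obtain ⟨p, hp1, hp2⟩ := Scheme.Pullback.exists_preimage_pullback (f := a) (g := a') w w'
    (hw.trans hw'.symm)
  let P := pullback a a'
  let c : P ⟶ Z := pullback.fst a a' ≫ a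
  have hc' : c = pullback.snd a a' ≫ a' := pullback.condition
  obtain ⟨m, hm, hmp⟩ := exists_lift c l p (by
    rw [← hw, ← hp1]; rfl)
  -- the étale `X`-scheme `V ×_X V'`
  let V2 : X.Etale := Scheme.Etale.mk (pullback.fst V.hom V'.hom ≫ V.hom)
  have e1 : (pullback.fst a a' ≫ b) ≫ V.hom = (pullback.snd a a' ≫ b') ≫ V'.hom := by
    rw [Category.assoc, hb, Category.assoc, hb', ← Category.assoc, pullback.condition,
      Category.assoc]
  let d : P ⟶ V2.left := pullback.lift (pullback.fst a a' ≫ b) (pullback.snd a a' ≫ b') e1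
  let p1 : V2 ⟶ V := etHom (pullback.fst V.hom V'.hom) rfl
  let p2 : V2 ⟶ V' := etHom (pullback.snd V.hom V'.hom) pullback.condition.symm
  have hd1 : d ≫ p1.left = pullback.fst a a' ≫ b := pullback.lift_fst _ _ _
  have hd2 : d ≫ p2.left = pullback.snd a a' ≫ b' := pullback.lift_snd _ _ _
  have hd : d ≫ V2.hom = c ≫ q := by
    have : d ≫ V2.hom = (d ≫ p1.left) ≫ V.hom := by
      rw [Category.assoc]; rfl
    rw [this, hd1, Category.assoc, hb]
    exact (Category.assoc _ _ _).symm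
  have key : v.res c rfl = (fam (F.obj.map p1.op σ)).res d hd := by
    have h1 : v.res c rfl = (v.res a rfl).res (pullback.fst a a')
        (show pullback.fst a a' ≫ a ≫ q = c ≫ q from (Category.assoc _ _ _).symm) := by
      rw [Fam.res_res]
    rw [h1, hσ, fam_map, Fam.res_res, Fam.res_res]
    exact Fam.res_congr _ _ hd1.symm
  have key' : v'.res c rfl = (fam (F.obj.map p2.op σ')).res d hd := by
    have h1 : v'.res c rfl = (v'.res a' rfl).res (pullback.snd a a')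
        (show pullback.snd a a' ≫ a' ≫ q = c ≫ q by rw [← Category.assoc, ← hc']) := by
      rw [Fam.res_res]
      exact Fam.res_congr _ _ hc'
    rw [h1, hσ', fam_map, Fam.res_res, Fam.res_res]
    exact Fam.res_congr _ _ hd2.symm
  -- the germs agree at `m ≫ d`
  have hmq : m ≫ c ≫ q = ξ := by rw [← Category.assoc, hm, h]
  have h2 : germ F (m ≫ d) (by rw [Category.assoc, hd, hmq]) (F.obj.map p1.op σ) =
      germ F (m ≫ d) (by rw [Category.assoc, hd, hmq]) (F.obj.map p2.op σ') := by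
    have h3 := Fam.congr_fun key m hmq
    have h4 := Fam.congr_fun key' m hmq
    refine h3.symm.trans (Eq.trans ?_ h4)
    exact (v.congr hm _).trans (hl.trans (v'.congr hm.symm _))
  obtain ⟨V3, g, m3, hm3, hg⟩ := (germ_eq_iff F _ _ _ _).1 h2
  let P' := pullback d g.left
  let c' : P' ⟶ Z := pullback.fst d g.left ≫ c
  refine ⟨Set.range c', (Scheme.Hom.isOpenMap c').isOpen_range, ?_, ?_⟩
  · refine ⟨(pullback.lift m m3 hm3.symm) default, ?_⟩
    rw [← Scheme.Hom.comp_apply, ← Category.assoc, pullback.lift_fst, hm]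
  · intro Ω' _ _ l' ξ' h' hl'
    obtain ⟨x, hx⟩ := hl'
    obtain ⟨m', hm', -⟩ := exists_lift c' l' x hx
    have e2 : m' ≫ pullback.fst d g.left ≫ c ≫ q = ξ' := by
      rw [← h', ← hm']
      simp only [Category.assoc, c']
    have e3 : (m' ≫ pullback.fst d g.left) ≫ c = l' := by rw [← hm', Category.assoc]
    have h5 := Fam.congr_fun key (m' ≫ pullback.fst d g.left) (ξ := ξ') (by simpa using e2)
    have h6 := Fam.congr_fun key' (m' ≫ pullback.fst d g.left) (ξ := ξ') (by simpa using e2)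
    have e4 : (m' ≫ pullback.snd d g.left) ≫ g.left = (m' ≫ pullback.fst d g.left) ≫ d := by
      rw [Category.assoc, ← pullback.condition, Category.assoc]
    have e5 : (m' ≫ pullback.snd d g.left) ≫ V3.hom = ξ' := by
      rw [← et_w g, ← Category.assoc, e4, Category.assoc, hd, Category.assoc]
      exact e2
    have h7 : ∀ τ : sect F V2, germ F ((m' ≫ pullback.fst d g.left) ≫ d)
        (by rw [Category.assoc, hd, Category.assoc]; exact e2) τ =
        germ F (m' ≫ pullback.snd d g.left) e5 (F.obj.map g.op τ) :=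
      fun τ => (germ_res' F g _ _ _ _ e4 τ).symm
    have e6 : ((m' ≫ pullback.fst d g.left) ≫ c) ≫ q = ξ' := by rw [e3, h']
    have h8 : v Ω' ((m' ≫ pullback.fst d g.left) ≫ c) ξ' e6 =
        v' Ω' ((m' ≫ pullback.fst d g.left) ≫ c) ξ' e6 :=
      h5.trans (((h7 _).trans ((congrArg _ hg).trans (h7 _).symm)).trans h6.symm)
    exact (v.congr e3.symm _).trans (h8.trans (v'.congr e3 _))

/-- Two families on `Z` which agree after an étale cover are equal. -/
theorem Fam.ext_of_etale {Z : Scheme.{u}} {q : Z ⟶ X} {v v' : Fam F q}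
    (h : ∀ z : Z, ∃ (W : Scheme.{u}) (a : W ⟶ Z) (_ : Etale a) (w : W), a w = z ∧
      v.res a rfl = v'.res a rfl) : v = v' := by
  ext Ω _ _ l ξ hl
  obtain ⟨W, a, ha, w, hw, e⟩ := h (l default)
  obtain ⟨m, hm, -⟩ := exists_lift a l w hw
  subst hm
  exact Fam.congr_fun e m (by rw [← hl, Category.assoc])

/-- The agreement locus of two families. -/
def agree {Z : Scheme.{u}} {q : Z ⟶ X} (v v' : Fam F q) : Set Z :=
  {z | ∀ (Ω : Type u) [Field Ω] [IsSepClosed Ω] (l : Spec (.of Ω) ⟶ Z) (ξ : Spec (.of Ω) ⟶ X)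
    (h : l ≫ q = ξ), l default = z → v Ω l ξ h = v' Ω l ξ h}

theorem eq_of_agree {Z : Scheme.{u}} {q : Z ⟶ X} {v v' : Fam F q}
    (h : ∀ z, z ∈ agree v v') : v = v' := by
  ext Ω _ _ l ξ hl
  exact h _ Ω l ξ hl rfl

/-- Agreement at one geometric point suffices. -/
theorem IsLoc.mem_agree {Z : Scheme.{u}} {q : Z ⟶ X} {v v' : Fam F q} (hv : IsLoc v)
    (hv' : IsLoc v') {Ω : Type u} [Field Ω] [IsSepClosed Ω] (l : Spec (.of Ω) ⟶ Z)
    {ξ : Spec (.of Ω) ⟶ X} (h : l ≫ q = ξ) (hl : v Ω l ξ h = v' Ω l ξ h) :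
    l default ∈ agree v v' := by
  obtain ⟨N, -, hN, H⟩ := hv.exists_nhd hv' l ξ h hl
  intro Ω' _ _ l' ξ' h' e
  exact H Ω' l' ξ' h' (by rw [e]; exact hN)

theorem IsLoc.isOpen_agree {Z : Scheme.{u}} {q : Z ⟶ X} {v v' : Fam F q} (hv : IsLoc v)
    (hv' : IsLoc v') : IsOpen (agree v v') := by
  rw [isOpen_iff_forall_mem_open]
  intro z hz
  obtain ⟨Ω, _, _, l, hl⟩ := exists_geomPoint Z z
  obtain ⟨N, hN, hl', H⟩ := hv.exists_nhd hv' l _ rfl (hz Ω l _ rfl hl)
  refine ⟨N, fun z' hz' Ω' _ _ l' ξ' h' e => H Ω' l' ξ' h' (by rw [e]; exact hz'), hN, ?_⟩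
  rw [← hl]
  exact hl'

theorem IsLoc.agree_res {Z Z' : Scheme.{u}} {q : Z ⟶ X} {v v' : Fam F q} (hv : IsLoc v)
    (hv' : IsLoc v') (r : Z' ⟶ Z) {q' : Z' ⟶ X} (h : r ≫ q = q') :
    agree (v.res r h) (v'.res r h) = r ⁻¹' agree v v' := by
  ext z'
  constructor
  · intro hz
    obtain ⟨Ω, _, _, l, hl⟩ := exists_geomPoint Z' z'
    have h1 := hz Ω l _ rfl hl
    have h2 := hv.mem_agree hv' (l ≫ r) (ξ := l ≫ q') (by rw [Category.assoc, h]) h1
    rw [Set.mem_preimage, ← hl]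
    exact h2
  · intro hz Ω _ _ l ξ hl e
    refine hz Ω (l ≫ r) ξ _ ?_
    rw [← e]
    rfl

theorem fam_ext {U : X.Etale} {s t : sect F U} (h : fam s = fam t) : s = t := by
  refine sect_ext_germ' F U s t fun Ω _ _ l => ?_
  exact Fam.congr_fun h l rfl

/-! ## Comparison with the bundled version -/

/-- The bundled family attached to a local family. -/
noncomputable def toFam {Z : Scheme.{u}} {q : Z ⟶ X} (v : Fam F q) (hv : IsLoc v) :
    Groth.Agent.Sga4A.EtStalk.Fam F q where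
  val {Ω} _ _ η ξ h := v Ω η ξ h
  rep z := by
    obtain ⟨W, a, ha, w, V, b, hb, σ, hw, hσ⟩ := hv z
    refine ⟨W, a, ha, w, hw, V, b, hb, σ, ?_⟩
    intro Ω _ _ ζ ξ h h'
    exact Fam.congr_fun hσ ζ (by rw [← h, Category.assoc])

/-- The local family attached to a bundled family. -/
noncomputable def ofFam {Z : Scheme.{u}} {q : Z ⟶ X} (γ : Groth.Agent.Sga4A.EtStalk.Fam F q) :
    Fam F q := fun _ _ _ l ξ h => γ.val l ξ h

theorem isLoc_ofFam {Z : Scheme.{u}} {q : Z ⟶ X} (γ : Groth.Agent.Sga4A.EtStalk.Fam F q) :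
    IsLoc (ofFam γ) := by
  intro z
  obtain ⟨W, a, ha, w, hw, V, b, hb, σ, hσ⟩ := γ.rep z
  refine ⟨W, a, ha, w, V, b, hb, σ, hw, ?_⟩
  ext Ω _ _ l ξ hl
  exact hσ l ξ _ _

/-- Local families on an étale `X`-scheme come from sections. -/
theorem exists_fam {U : X.Etale} (v : Fam F U.hom) (hv : IsLoc v) :
    ∃ s : sect F U, fam s = v := by
  obtain ⟨s, hs⟩ := (toFam v hv).exists_sect
  refine ⟨s, ?_⟩
  ext Ω _ _ l ξ hl
  exact hs l ξ hl

/-- **Descent of local families along submersive morphisms.** -/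
theorem exists_descend {Z Y : Scheme.{u}} {q : Z ⟶ Y} {g : Y ⟶ X} {r : Z ⟶ X} (hr : q ≫ g = r)
    (hq : Groth.Agent.Sga4A.EtStalk.EtSubmersive q) (v : Fam F r) (hv : IsLoc v)
    (hc : ∀ (Ω : Type u) [Field Ω] [IsSepClosed Ω] (z₁ z₂ : Spec (.of Ω) ⟶ Z)
      (_ : z₁ ≫ q = z₂ ≫ q) (ξ : Spec (.of Ω) ⟶ X) (h₁ : z₁ ≫ r = ξ) (h₂ : z₂ ≫ r = ξ),
      v Ω z₁ ξ h₁ = v Ω z₂ ξ h₂) :
    ∃ v' : Fam F g, IsLoc v' ∧ v'.res q hr = v := by
  subst hr
  obtain ⟨δ, hδ⟩ := Groth.Agent.Sga4A.EtStalk.Fam.exists_descend (g := g) hq (toFam v hv) hc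
  refine ⟨ofFam δ, isLoc_ofFam δ, ?_⟩
  ext Ω _ _ l ξ hl
  exact hδ l ξ _ _

end Groth.Agent.Etbc.H184.FamSh
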