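import Mathlib.RingTheory.Localization.BaseChange
import Mathlib.RingTheory.Spectrum.Prime.Topology
import Mathlib.RingTheory.TensorProduct.Basic

/-!
# Idempotents of `K ⊗ B` when `K` is a localization of `C` as an `A`-module
-/

set_option autoImplicit false

open TensorProduct

namespace Groth.Agent.Etbc.H184.IdemLoc

variable {A B C K : Type*} [CommRing A] [CommRing B] [CommRing C] [CommRing K]
  [Algebra A B] [Algebra A C] [Algebra A K] [Algebra C K] [IsScalarTower A C K]

/-- If `K` is a localization of `C` at a submonoid `S` of `A`, and if the open subsets `f ≠ 0` of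
`Spec (C ⊗[A] B)` for `f ∈ S` are preconnected, then `K ⊗[A] B` has only trivial idempotents. -/
theorem idem_of_preconnected (S : Submonoid A)
    [IsLocalizedModule S (IsScalarTower.toAlgHom A C K).toLinearMap]
    (h : ∀ f ∈ S, IsPreconnected {q : PrimeSpectrum (C ⊗[A] B) | algebraMap A _ f ∉ q.asIdeal})
    (e : K ⊗[A] B) (he : IsIdempotentElem e) : e = 0 ∨ e = 1 := by
  let φ : C ⊗[A] B →ₐ[A] K ⊗[A] B :=
    Algebra.TensorProduct.map (IsScalarTower.toAlgHom A C K) (AlgHom.id A B)
  have hφ : φ.toLinearMap =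
      AlgebraTensorModule.rTensor A B (IsScalarTower.toAlgHom A C K).toLinearMap := by
    ext
    simp [φ]
  have hloc : IsLocalizedModule S φ.toLinearMap := by
    rw [hφ]
    infer_instance
  have hunit : ∀ s ∈ S, IsUnit (algebraMap A (K ⊗[A] B) s) := by
    intro s hs
    have h1 := IsLocalizedModule.map_units φ.toLinearMap ⟨s, hs⟩
    rw [Module.End.isUnit_iff] at h1
    obtain ⟨y, hy⟩ := h1.2 1
    refine IsUnit.of_mul_eq_one y ?_
    rw [← Algebra.smul_def]
    exact hy
  obtain ⟨⟨b, s, hs⟩, hb⟩ := IsLocalizedModule.surj S φ.toLinearMap e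
  have hb' : algebraMap A _ s * e = φ b := by
    rw [← Algebra.smul_def]
    exact hb
  have hse : φ (algebraMap A _ s) = algebraMap A _ s := φ.commutes s
  have h1 : φ (b * b) = φ (algebraMap A _ s * b) := by
    rw [map_mul, map_mul, hse, ← hb']
    calc algebraMap A (K ⊗[A] B) s * e * (algebraMap A _ s * e)
        = algebraMap A _ s * (algebraMap A _ s * (e * e)) := by ring
      _ = algebraMap A _ s * (algebraMap A _ s * e) := by rw [he.eq]
  obtain ⟨⟨t, ht⟩, hst⟩ := IsLocalizedModule.exists_of_eq (S := S) (f := φ.toLinearMap) h1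
  have hst' : algebraMap A (C ⊗[A] B) t * (b * b) =
      algebraMap A _ t * (algebraMap A _ s * b) := by
    rw [← Algebra.smul_def, ← Algebra.smul_def]
    exact hst
  have hpre := h (t * s) (S.mul_mem ht hs)
  let W₁ : Set (PrimeSpectrum (C ⊗[A] B)) := PrimeSpectrum.basicOpen b
  let W₂ : Set (PrimeSpectrum (C ⊗[A] B)) := PrimeSpectrum.basicOpen (algebraMap A _ s - b)
  have hW₁ : IsOpen W₁ := (PrimeSpectrum.basicOpen b).2
  have hW₂ : IsOpen W₂ := (PrimeSpectrum.basicOpen (algebraMap A _ s - b)).2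
  have hcov : {q : PrimeSpectrum (C ⊗[A] B) | algebraMap A _ (t * s) ∉ q.asIdeal} ⊆ W₁ ∪ W₂ := by
    intro q hq
    by_contra hq'
    rw [Set.mem_union, not_or] at hq'
    have h2 : b ∈ q.asIdeal := by
      by_contra hb
      exact hq'.1 hb
    have h3 : algebraMap A _ s - b ∈ q.asIdeal := by
      by_contra hb
      exact hq'.2 hb
    apply hq
    have h4 : algebraMap A (C ⊗[A] B) s ∈ q.asIdeal := by
      have := q.asIdeal.add_mem h3 h2
      rwa [sub_add_cancel] at this
    rw [map_mul]
    exact q.asIdeal.mul_mem_left _ h4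
  have hdisj : ∀ q : PrimeSpectrum (C ⊗[A] B), algebraMap A _ (t * s) ∉ q.asIdeal →
      q ∈ W₁ → q ∈ W₂ → False := by
    intro q hq h2 h3
    have h4 : algebraMap A (C ⊗[A] B) t * (b * (algebraMap A _ s - b)) ∈ q.asIdeal := by
      have : algebraMap A (C ⊗[A] B) t * (b * (algebraMap A _ s - b)) = 0 := by
        rw [mul_sub, mul_sub, hst']
        ring
      rw [this]
      exact q.asIdeal.zero_mem
    rcases q.isPrime.mem_or_mem h4 with h5 | h5
    · apply hq
      rw [map_mul]
      exact q.asIdeal.mul_mem_right _ h5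
    · rcases q.isPrime.mem_or_mem h5 with h6 | h6
      · exact h2 h6
      · exact h3 h6
  have hpre' := hpre W₁ W₂ hW₁ hW₂ hcov
  have hnil : ∀ x : C ⊗[A] B, (∀ q : PrimeSpectrum (C ⊗[A] B),
      algebraMap A _ (t * s) ∉ q.asIdeal → x ∈ q.asIdeal) →
      IsNilpotent (algebraMap A (C ⊗[A] B) (t * s) * x) := by
    intro x hx
    rw [nilpotent_iff_mem_prime]
    intro q hq
    by_cases h2 : algebraMap A _ (t * s) ∈ q
    · exact q.mul_mem_right _ h2
    · exact q.mul_mem_left _ (hx ⟨q, hq⟩ h2)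
  have hu : IsUnit (algebraMap A (K ⊗[A] B) (t * s)) := hunit _ (S.mul_mem ht hs)
  have hus : IsUnit (algebraMap A (K ⊗[A] B) s) := hunit _ hs
  have hidem : ∀ y : K ⊗[A] B, IsIdempotentElem y →
      IsNilpotent (algebraMap A (K ⊗[A] B) (t * s) * (algebraMap A _ s * y)) → y = 0 := by
    intro y hy hn
    obtain ⟨n, hn⟩ := hn
    have h2 : (algebraMap A (K ⊗[A] B) (t * s) * (algebraMap A _ s)) ^ (n + 1) * y = 0 := by
      have h3 : y ^ (n + 1) = y := hy.pow_succ_eq n
      rw [← h3, ← mul_pow, mul_assoc, pow_succ, hn, zero_mul]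
    exact ((hu.mul hus).pow (n + 1)).mul_right_eq_zero.1 h2
  by_cases hne₁ : ({q : PrimeSpectrum (C ⊗[A] B) | algebraMap A _ (t * s) ∉ q.asIdeal} ∩
      W₁).Nonempty
  · right
    have hne₂ : ¬ ({q : PrimeSpectrum (C ⊗[A] B) | algebraMap A _ (t * s) ∉ q.asIdeal} ∩
        W₂).Nonempty := by
      intro hne₂
      obtain ⟨q, hq, hq1, hq2⟩ := hpre' hne₁ hne₂
      exact hdisj q hq hq1 hq2
    have h2 : IsNilpotent (algebraMap A (C ⊗[A] B) (t * s) * (algebraMap A _ s - b)) := by
      apply hnil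
      intro q hq
      by_contra h3
      exact hne₂ ⟨q, hq, h3⟩
    have h3 := h2.map φ
    rw [map_mul, map_sub, hse, ← hb', φ.commutes] at h3
    have h4 : algebraMap A (K ⊗[A] B) s - algebraMap A _ s * e = algebraMap A _ s * (1 - e) := by
      ring
    rw [h4] at h3
    have h5 := hidem (1 - e) he.one_sub h3
    exact (sub_eq_zero.1 h5).symm
  · left
    have h2 : IsNilpotent (algebraMap A (C ⊗[A] B) (t * s) * b) := by
      apply hnil
      intro q hq
      by_contra h3
      exact hne₁ ⟨q, hq, h3⟩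
    have h3 := h2.map φ
    rw [map_mul, ← hb', φ.commutes] at h3
    exact hidem e he h3

end Groth.Agent.Etbc.H184.IdemLoc
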