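import Groth.Agent.Etbc.H184.OpenConn
import Groth.Agent.Etbc.H184.IdemLoc
import Groth.Agent.Etbc.H192.ZeroAcyc
import Groth.Agent.Etbc.H191.MinusOne
import Groth.Agent.VarietyA.GeomIrrS
import Groth.Agent.UnramB.IdemConn
import Mathlib.RingTheory.Algebraic.Integral
import Mathlib.FieldTheory.IsAlgClosed.AlgebraicClosure
import Mathlib.RingTheory.LocalRing.ResidueField.Ideal

/-!
# 0-acyclic morphisms of affine schemes have connected geometric fibres
-/

set_option autoImplicit false
universe u
open CategoryTheory CategoryTheory.Limits AlgebraicGeometry Opposite TensorProduct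

namespace Groth.Agent.Etbc.H184.FibConn

open Groth.Agent.Etbc.H192.ZeroAcyc

theorem isMinusOneAcyclic_of_isZeroAcyclic {X Y : Scheme.{u}} (g : X ⟶ Y)
    (h : EtAcyc.IsZeroAcyclic g) : EtAcyc.IsMinusOneAcyclic g := fun V F => by
  have := h V F
  infer_instance

theorem surjective_of_isZeroAcyclic {X Y : Scheme.{u}} (g : X ⟶ Y) [QuasiCompact g]
    (h : EtAcyc.IsZeroAcyclic g) : Surjective g :=
  ⟨Groth.Agent.Etbc.H191.MinusOne.surjective_of_minusOneAcyclic g
    (isMinusOneAcyclic_of_isZeroAcyclic _ h)⟩

/-- Elements of `A` which do not vanish in `K`. -/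
def nz (A K : Type u) [CommRing A] [Field K] [Algebra A K] : Submonoid A where
  carrier := {s | algebraMap A K s ≠ 0}
  mul_mem' {a b} ha hb := by
    change algebraMap A K (a * b) ≠ 0
    rw [map_mul]
    exact mul_ne_zero ha hb
  one_mem' := by
    change algebraMap A K 1 ≠ 0
    rw [map_one]
    exact one_ne_zero

/-- The localization property of the integral closure in a field algebraic over `A`. -/
theorem isLocalizedModule_integralClosure {A K : Type u} [CommRing A] [Field K] [Algebra A K]
    (hK : ∀ x : K, ∃ s : A, algebraMap A K s ≠ 0 ∧ IsIntegral A (algebraMap A K s * x)) :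
    IsLocalizedModule (nz A K)
      (IsScalarTower.toAlgHom A (integralClosure A K) K).toLinearMap where
  map_units s := by
    have hs : algebraMap A K s.1 ≠ 0 := s.2
    rw [Module.End.isUnit_iff]
    constructor
    · intro x y hxy
      have h1 : algebraMap A K s.1 * x = algebraMap A K s.1 * y := by
        rw [← Algebra.smul_def, ← Algebra.smul_def]
        exact hxy
      exact mul_left_cancel₀ hs h1
    · intro y
      refine ⟨(algebraMap A K s.1)⁻¹ * y, ?_⟩
      change s.1 • ((algebraMap A K s.1)⁻¹ * y) = y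
      rw [Algebra.smul_def, ← mul_assoc, mul_inv_cancel₀ hs, one_mul]
  surj x := by
    obtain ⟨s, hs, hx⟩ := hK x
    refine ⟨⟨⟨algebraMap A K s * x, hx⟩, ⟨s, hs⟩⟩, ?_⟩
    change s • x = algebraMap A K s * x
    rw [Algebra.smul_def]
  exists_of_eq {x y} h := ⟨1, by
    have : x = y := Subtype.ext h
    rw [this]⟩

/-- The fibre of a 0-acyclic morphism of affine schemes at a field algebraic over the base is connected. -/
theorem connectedSpace_pullback {A B K : Type u} [CommRing A] [CommRing B] [Field K] [Algebra A B]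
    [Algebra A K] (hg : EtAcyc.IsZeroAcyclic (Spec.map (CommRingCat.ofHom (algebraMap A B))))
    (hK : ∀ x : K, ∃ s : A, algebraMap A K s ≠ 0 ∧ IsIntegral A (algebraMap A K s * x)) :
    ConnectedSpace ↥(pullback (Spec.map (CommRingCat.ofHom (algebraMap A K)))
      (Spec.map (CommRingCat.ofHom (algebraMap A B)))) := by
  have hs : Surjective (Spec.map (CommRingCat.ofHom (algebraMap A B))) :=
    surjective_of_isZeroAcyclic _ hg
  have hne : Nonempty ↥(pullback (Spec.map (CommRingCat.ofHom (algebraMap A K)))
      (Spec.map (CommRingCat.ofHom (algebraMap A B)))) := by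
    have h1 : Surjective (pullback.fst (Spec.map (CommRingCat.ofHom (algebraMap A K)))
      (Spec.map (CommRingCat.ofHom (algebraMap A B)))) := inferInstance
    obtain ⟨x, -⟩ := h1.surj (default : ↥(Spec (CommRingCat.of K)))
    exact ⟨x⟩
  let e := pullbackSpecIso A K B
  have hne' : Nonempty (PrimeSpectrum (K ⊗[A] B)) := ⟨e.hom hne.some⟩
  have hnt : Nontrivial (K ⊗[A] B) := PrimeSpectrum.nonempty_iff_nontrivial.1 hne'
  have := isLocalizedModule_integralClosure hK
  have h2 : ConnectedSpace (PrimeSpectrum (K ⊗[A] B)) :=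
    Groth.Agent.UnramB.IdemConn.connectedSpace_of_idempotents (K ⊗[A] B)
      (fun x hx => IdemLoc.idem_of_preconnected (C := integralClosure A K)
        (nz A K)
        (fun f _ => OpenConn.isPreconnected_spec hg f) x hx)
  have h3 : ConnectedSpace ↥(Spec (CommRingCat.of (K ⊗[A] B))) := h2
  exact (Scheme.homeoOfIso e.symm).surjective.connectedSpace (Scheme.homeoOfIso e.symm).continuous

/-- **0-acyclic morphisms of affine schemes have connected geometric fibres.** -/
theorem sepGeomConnected_spec {A B : Type u} [CommRing A] [CommRing B] [Algebra A B]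
    (hg : EtAcyc.IsZeroAcyclic (Spec.map (CommRingCat.ofHom (algebraMap A B)))) :
    SepGeomConnected (Spec.map (CommRingCat.ofHom (algebraMap A B))) := by
  intro Ω _ _ s
  obtain ⟨φ, rfl⟩ := Spec.map_surjective s
  let p : Ideal A := RingHom.ker φ.hom
  have hp : p.IsPrime := RingHom.ker_isPrime _
  let κ := p.ResidueField
  have hp2 : p.primeCompl ≤ (IsUnit.submonoid Ω).comap φ.hom := by
    intro x hx
    have : φ.hom x ≠ 0 := hx
    exact isUnit_iff_ne_zero.2 this
  let j : κ →+* Ω := Ideal.ResidueField.lift p φ.hom le_rfl hp2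
  have hj : j.comp (algebraMap A κ) = φ.hom := by
    ext x
    exact Ideal.ResidueField.lift_algebraMap p φ.hom le_rfl hp2 x
  let g := Spec.map (CommRingCat.ofHom (algebraMap A B))
  let ι := Spec.map (CommRingCat.ofHom (algebraMap A κ))
  let k' := AlgebraicClosure κ
  have h1 : ConnectedSpace ↥(pullback (Spec.map (CommRingCat.ofHom (algebraMap A k'))) g) := by
    apply connectedSpace_pullback hg
    intro x
    have hx : IsAlgebraic κ x := Algebra.IsAlgebraic.isAlgebraic x
    have hx2 : IsAlgebraic (A ⧸ p) x := (IsFractionRing.isAlgebraic_iff (A ⧸ p) κ k').2 hx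
    obtain ⟨y, hy, hyx⟩ := hx2.exists_integral_multiple
    obtain ⟨s, rfl⟩ := Ideal.Quotient.mk_surjective y
    have hs : algebraMap A k' s = algebraMap (A ⧸ p) k' (Ideal.Quotient.mk p s) :=
      IsScalarTower.algebraMap_apply A (A ⧸ p) k' s
    refine ⟨s, ?_, ?_⟩
    · rw [hs, IsScalarTower.algebraMap_apply (A ⧸ p) κ k']
      intro h
      have h2 := (map_eq_zero_iff _ (algebraMap κ k').injective).1 h
      exact hy ((map_eq_zero_iff _ (IsFractionRing.injective (A ⧸ p) κ)).1 h2)
    · have h3 : algebraMap A k' s * x = (Ideal.Quotient.mk p s) • x := by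
        rw [Algebra.smul_def, hs]
      rw [h3]
      exact isIntegral_trans (R := A) (A := A ⧸ p) _ hyx
  have hc : Spec.map (CommRingCat.ofHom (algebraMap κ k')) ≫ ι =
      Spec.map (CommRingCat.ofHom (algebraMap A k')) := by
    rw [← Spec.map_comp, ← CommRingCat.ofHom_comp, ← IsScalarTower.algebraMap_eq]
  have h2 : ConnectedSpace ↥(pullback (pullback.snd g ι)
      (Spec.map (CommRingCat.ofHom (algebraMap κ k')))) := by
    let e := pullbackLeftPullbackSndIso g ι (Spec.map (CommRingCat.ofHom (algebraMap κ k'))) ≪≫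
      pullbackSymmetry _ _ ≪≫ pullback.congrHom hc rfl
    exact (Scheme.homeoOfIso e.symm).surjective.connectedSpace (Scheme.homeoOfIso e.symm).continuous
  have h3 : GeometricallyConnected (pullback.snd g ι) :=
    Groth.Agent.VarietyA.GeomIrr.geometricallyConnected_of_connectedSpace_of_isSepClosed κ k'
      (pullback.snd g ι)
  have h4 := sepGeomConnected_of_geometricallyConnected (pullback.snd g ι) Ω
    (Spec.map (CommRingCat.ofHom j))
  have hs : Spec.map (CommRingCat.ofHom j) ≫ ι = Spec.map φ := by
    rw [← Spec.map_comp, ← CommRingCat.ofHom_comp, hj]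
    rfl
  let e := (pullbackSymmetry _ _ ≪≫
    pullbackLeftPullbackSndIso g ι (Spec.map (CommRingCat.ofHom j)) ≪≫
      pullbackSymmetry _ _ ≪≫ pullback.congrHom hs rfl :
      pullback (Spec.map (CommRingCat.ofHom j)) (pullback.snd g ι) ≅ pullback (Spec.map φ) g)
  exact (Scheme.homeoOfIso e).surjective.connectedSpace (Scheme.homeoOfIso e).continuous

end Groth.Agent.Etbc.H184.FibConn
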