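import Groth.Prelude.Def_EtAcyc
import Groth.Agent.Etbc.H230.ConstSets
import Groth.Agent.Etbc.H235.BCSec
import Groth.Agent.Topos.H572.BCSh
import Groth.Agent.Sga4A.BCIntegral

/-!
# 0-acyclic morphisms and integral base change

* `secPull_bijective_of_integral` : if `g : X ⟶ Y` is 0-acyclic, then for `V ⟶ Y` étale and `T ⟶ V` integral the
  morphism `X ×_Y T ⟶ T` induces bijections on global sections of sheaves of sets;
* `preconnectedSpace_of_integral` : hence `X ×_Y T` is connected if `T` is.
-/

set_option autoImplicit false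
set_option backward.isDefEq.respectTransparency.types false
universe u
open CategoryTheory CategoryTheory.Limits AlgebraicGeometry Opposite

namespace Groth.Agent.Etbc.H184.IntConn

open EtDesc Groth.Agent.Sga4A.EtStalk

theorem secPull_bijective_of_isIso_unit {X Y : Scheme.{u}} (g : X ⟶ Y) (F : Sh Y)
    [IsIso ((adjSh g).unit.app F)] : Function.Bijective (secPull g F) := by
  have h0 : IsIso (((adjSh g).unit.app F).hom.app (op (EtCoh.top Y))) := by
    have : IsIso ((sheafToPresheaf _ _).map ((adjSh g).unit.app F)) := inferInstance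
    exact (NatTrans.isIso_iff_isIso_app _).1 this _
  have h1 : Function.Bijective (((adjSh g).unit.app F).hom.app (op (EtCoh.top Y))) :=
    (isIso_iff_bijective _).1 h0
  have h2 : Function.Bijective (((pullSh g).obj F).obj.map (EtCore.bcTopIso g).inv.op) :=
    (isIso_iff_bijective _).1 inferInstance
  exact h2.comp h1

/-- If the unit of `g` is an isomorphism on `f_* F`, with `f` integral, then the base change `g'` of `g` along
`f` induces a bijection on the global sections of `F`. -/
theorem secPull_bijective_of_integral {X Y X' Y' : Scheme.{u}} (f : X ⟶ Y) (g : Y' ⟶ Y)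
    (f' : X' ⟶ Y') (g' : X' ⟶ X) (h : IsPullback g' f' f g) [IsIntegralHom f] (F : Sh X)
    [IsIso ((adjSh g).unit.app ((pushSh f).obj F))] : Function.Bijective (secPull g' F) := by
  have hbc : IsIso (EtBC.baseChange0Sh f g f' g' h.w F) :=
    Groth.Agent.Topos.H572.BCSh.isIso_baseChange0Sh_of_bcsurj f g f' g'
      (Groth.Agent.Sga4A.BCIntegral.bcsurj_of_isIntegralHom f) h F
  have h0 : IsIso ((EtBC.baseChange0Sh f g f' g' h.w F).hom.app (op (EtCoh.top Y'))) := by
    have : IsIso ((sheafToPresheaf _ _).map (EtBC.baseChange0Sh f g f' g' h.w F)) := inferInstance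
    exact (NatTrans.isIso_iff_isIso_app _).1 this _
  have h1 := (isIso_iff_bijective _).1 h0
  have h2 := secPull_bijective_of_isIso_unit g ((pushSh f).obj F)
  have h3 : Function.Bijective (F.obj.map (EtCore.bcTopIso f).hom.op) :=
    (isIso_iff_bijective _).1 inferInstance
  have h4 : Function.Bijective (((pullSh g').obj F).obj.map (EtCore.bcTopIso f').hom.op) :=
    (isIso_iff_bijective _).1 inferInstance
  have h5 := (h1.comp h2).comp h3
  have h6 : (((pullSh g').obj F).obj.map (EtCore.bcTopIso f').hom.op) ∘ (secPull g' F) =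
      (((EtBC.baseChange0Sh f g f' g' h.w F).hom.app (op (EtCoh.top Y'))) ∘
        (secPull g ((pushSh f).obj F))) ∘ (F.obj.map (EtCore.bcTopIso f).hom.op) := by
    funext s
    exact (Groth.Agent.Etbc.H235.BCSec.baseChange0Sh_secPull f g f' g' h.w F s).symm
  rw [← h6] at h5
  exact (Function.Bijective.of_comp_iff' h4 _).1 h5

/-- Integral base changes of étale localizations of a 0-acyclic morphism preserve connectedness. -/
theorem preconnectedSpace_of_integral {X Y : Scheme.{u}} (g : X ⟶ Y) (hg : EtAcyc.IsZeroAcyclic g)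
    (V : Y.Etale) {T P : Scheme.{u}} (b : T ⟶ V.left) [IsIntegralHom b] [PreconnectedSpace T]
    (r : P ⟶ T) (m : P ⟶ pullback V.hom g) (H : IsPullback r m b (EtAcyc.prj g V)) :
    PreconnectedSpace P := by
  classical
  let I : Type u := ULift.{u} (Fin 2)
  have hu := hg V ((pushSh b).obj (Groth.Agent.Etbc.H230.ConstSets.C T I))
  have h1 := secPull_bijective_of_integral b (EtAcyc.prj g V) m r H
    (Groth.Agent.Etbc.H230.ConstSets.C T I)
  have h2 := (Groth.Agent.Etbc.H230.ConstSets.secPull_bijective_iff r).1 h1
  rw [preconnectedSpace_iff_clopen]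
  intro s hs
  obtain ⟨t, ht⟩ := h2.2 ((LocallyConstant.ofIsClopen hs).map (ULift.up.{u}))
  have h3 : ∀ x y : P, (x ∈ s ↔ y ∈ s) := by
    intro x y
    have e1 := DFunLike.congr_fun ht x
    have e2 := DFunLike.congr_fun ht y
    have e3 : t (r x) = t (r y) := t.apply_eq_of_preconnectedSpace _ _
    have e4 : (LocallyConstant.ofIsClopen hs) x = (LocallyConstant.ofIsClopen hs) y := by
      have e5 : ((LocallyConstant.ofIsClopen hs).map (ULift.up.{u})) x =
          ((LocallyConstant.ofIsClopen hs).map (ULift.up.{u})) y := by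
        rw [← e1, ← e2]
        exact e3
      exact congrArg ULift.down e5
    have e6 : ∀ z : P, z ∈ s ↔ (LocallyConstant.ofIsClopen hs) z = 0 := by
      intro z
      exact (Set.ext_iff.1 (LocallyConstant.ofIsClopen_fiber_zero hs) z).symm
    rw [e6, e6, e4]
  by_cases hne : s.Nonempty
  · right
    obtain ⟨x, hx⟩ := hne
    exact Set.eq_univ_of_forall fun y => (h3 x y).1 hx
  · left
    exact Set.not_nonempty_iff_eq_empty.1 hne

end Groth.Agent.Etbc.H184.IntConn
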