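import Groth.Agent.Etbc.H184.IntConn
import Mathlib.AlgebraicGeometry.Pullbacks

/-!
# Connectedness of the open subsets `f ≠ 0` of `Spec (C ⊗[A] B)`, `Spec B ⟶ Spec A` 0-acyclic, `C` integral over `A`
-/

set_option autoImplicit false
universe u
open CategoryTheory CategoryTheory.Limits AlgebraicGeometry Opposite TensorProduct

namespace Groth.Agent.Etbc.H184.OpenConn

/-- Scheme-theoretic form: `g : X ⟶ Y` 0-acyclic, `h : Z ⟶ Y` integral with `Z` integral, `V ⟶ Y` an open
immersion. The part of `X ×_Y Z` above `V` is preconnected. -/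
theorem isPreconnected_of_isZeroAcyclic {X Y Z : Scheme.{u}} (g : X ⟶ Y)
    (hg : EtAcyc.IsZeroAcyclic g) (h : Z ⟶ Y) [IsIntegralHom h] [IsIntegral Z] (V : Y.Opens) :
    _root_.IsPreconnected ((pullback.snd g h) ⁻¹' (h ⁻¹' (V : Set Y))) := by
  let V' : Y.Etale := Scheme.Etale.mk V.ι
  let T := pullback V.ι h
  let b₁ : T ⟶ V'.left := pullback.fst V.ι h
  let b₂ : T ⟶ Z := pullback.snd V.ι h
  have hb : b₂ ≫ h = b₁ ≫ V'.hom := pullback.condition.symm
  have hb₁ : IsIntegralHom b₁ := inferInstanceAs (IsIntegralHom (pullback.fst V.ι h))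
  have hb₂ : IsOpenImmersion b₂ := inferInstanceAs (IsOpenImmersion (pullback.snd V.ι h))
  have hT : PreconnectedSpace T := by
    by_cases hne : Nonempty T
    · have := isIntegral_of_isOpenImmersion b₂
      infer_instance
    · have := not_nonempty_iff.1 hne
      exact ⟨Set.Subsingleton.isPreconnected (fun x => (this.false x).elim)⟩
  let Q := pullback g h
  let q₁ : Q ⟶ X := pullback.fst g h
  let q₂ : Q ⟶ Z := pullback.snd g h
  let P := pullback q₂ b₂
  let r₁ : P ⟶ Q := pullback.fst q₂ b₂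
  let r₂ : P ⟶ T := pullback.snd q₂ b₂
  have H1 : IsPullback r₁ r₂ q₂ b₂ := IsPullback.of_hasPullback _ _
  have H2 : IsPullback q₁ q₂ g h := IsPullback.of_hasPullback _ _
  have H3 : IsPullback (r₁ ≫ q₁) r₂ g (b₂ ≫ h) := H1.paste_horiz H2
  have hm : (r₂ ≫ b₁) ≫ V'.hom = (r₁ ≫ q₁) ≫ g := by
    rw [Category.assoc, ← hb, H3.w]
  let m : P ⟶ pullback V'.hom g := pullback.lift (r₂ ≫ b₁) (r₁ ≫ q₁) hm
  have hm1 : m ≫ pullback.fst V'.hom g = r₂ ≫ b₁ := pullback.lift_fst _ _ _
  have hm2 : m ≫ pullback.snd V'.hom g = r₁ ≫ q₁ := pullback.lift_snd _ _ _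
  have H4 : IsPullback m r₂ (pullback.fst V'.hom g) b₁ := by
    refine IsPullback.of_right (h₁₂ := pullback.snd V'.hom g) (v₁₃ := g) (h₂₂ := V'.hom) ?_ hm1
      (IsPullback.of_hasPullback V'.hom g).flip
    rw [hm2, ← hb]
    exact H3
  have hP : PreconnectedSpace P :=
    IntConn.preconnectedSpace_of_integral g hg V' b₁ r₂ m H4.flip
  have hr : Set.range r₁ = q₂ ⁻¹' (h ⁻¹' (V : Set Y)) := by
    have h1 : Set.range r₁ = q₂ ⁻¹' (Set.range b₂) := Scheme.Pullback.range_fst q₂ b₂
    have h2 : Set.range b₂ = h ⁻¹' (Set.range V.ι) := Scheme.Pullback.range_snd V.ι h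
    rw [h1, h2, V.range_ι]
  rw [← hr]
  exact isPreconnected_range r₁.continuous

theorem isPreconnected_spec {A B C : Type u} [CommRing A] [CommRing B] [CommRing C] [IsDomain C]
    [Algebra A B] [Algebra A C] [Algebra.IsIntegral A C]
    (hg : EtAcyc.IsZeroAcyclic (Spec.map (CommRingCat.ofHom (algebraMap A B)))) (f : A) :
    _root_.IsPreconnected {q : PrimeSpectrum (C ⊗[A] B) | algebraMap A _ f ∉ q.asIdeal} := by
  let g := Spec.map (CommRingCat.ofHom (algebraMap A B))
  let h := Spec.map (CommRingCat.ofHom (algebraMap A C))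
  have hh : IsIntegralHom h := by
    rw [IsIntegralHom.SpecMap_iff]
    exact algebraMap_isIntegral_iff.2 inferInstance
  let V : (Spec (CommRingCat.of A)).Opens := PrimeSpectrum.basicOpen f
  have h1 := isPreconnected_of_isZeroAcyclic g hg h V
  let e : pullback g h ≅ Spec (.of (C ⊗[A] B)) := pullbackSymmetry g h ≪≫ pullbackSpecIso A C B
  have h2 := h1.image e.hom e.hom.continuous.continuousOn
  have he : e.inv ≫ pullback.snd g h ≫ h =
      Spec.map (CommRingCat.ofHom (algebraMap A (C ⊗[A] B))) := by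
    have h3 := pullbackSpecIso_hom_base A C B
    have h4 : e.inv ≫ pullback.snd g h = (pullbackSpecIso A C B).inv ≫ pullback.fst h g := by
      simp only [e, Iso.trans_inv, Category.assoc, pullbackSymmetry_inv_comp_snd]
    rw [← Category.assoc, h4, Category.assoc, Iso.inv_comp_eq]
    exact h3.symm
  have hq : ∀ q : ↥(Spec (CommRingCat.of (C ⊗[A] B))), h (pullback.snd g h (e.inv q)) =
      Spec.map (CommRingCat.ofHom (algebraMap A (C ⊗[A] B))) q := by
    intro q
    rw [← he, Scheme.Hom.comp_apply, Scheme.Hom.comp_apply]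
  have hV : ∀ q : ↥(Spec (CommRingCat.of (C ⊗[A] B))),
      Spec.map (CommRingCat.ofHom (algebraMap A (C ⊗[A] B))) q ∈ (V : Set _) ↔
        algebraMap A (C ⊗[A] B) f ∉ q.asIdeal := fun q => Iff.rfl
  have hei : ∀ q : ↥(Spec (CommRingCat.of (C ⊗[A] B))), e.hom (e.inv q) = q := by
    intro q
    rw [← Scheme.Hom.comp_apply, e.inv_hom_id]
    rfl
  have hset : {q : ↥(Spec (CommRingCat.of (C ⊗[A] B))) | algebraMap A _ f ∉ q.asIdeal} =
      e.hom '' ((pullback.snd g h) ⁻¹' (h ⁻¹' (V : Set _))) := by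
    ext q
    constructor
    · intro hqf
      refine ⟨e.inv q, ?_, hei q⟩
      rw [Set.mem_preimage, Set.mem_preimage, hq q]
      exact hqf
    · rintro ⟨x, hx, rfl⟩
      rw [Set.mem_preimage, Set.mem_preimage] at hx
      have h5 : e.inv (e.hom x) = x := by
        rw [← Scheme.Hom.comp_apply, e.hom_inv_id]
        rfl
      have h6 := hq (e.hom x)
      rw [h5] at h6
      rw [h6] at hx
      exact hx
  have h7 : _root_.IsPreconnected
      {q : ↥(Spec (CommRingCat.of (C ⊗[A] B))) | algebraMap A _ f ∉ q.asIdeal} := by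
    rw [hset]
    exact h2
  exact h7

end Groth.Agent.Etbc.H184.OpenConn
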