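import Groth.Agent.Etbc.H184.GenSubm
import Groth.Agent.Etbc.H191.MinusOne
import Groth.Agent.Etbc.H198.WeBC
import Groth.Agent.EtpbcB.Psi
import Groth.Agent.Sga4h.SLocTrans88

/-!
# Locally 0-acyclic morphisms: generizations lift; maps of strict localizations are universally submersive
-/

set_option autoImplicit false
universe u
open CategoryTheory CategoryTheory.Limits AlgebraicGeometry Opposite IsLocalRing

namespace Groth.Agent.Etbc.H184.UnivSubm

open Groth.Agent.EtpbcB.StrictLoc Groth.Agent.EtpbcB.Psi Groth.Agent.EtpbcB.OshHens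
open Groth.Agent.Etrest.StrictLoc

theorem isMinusOneAcyclic_of_isZeroAcyclic {X Y : Scheme.{u}} (g : X ⟶ Y)
    (h : EtAcyc.IsZeroAcyclic g) : EtAcyc.IsMinusOneAcyclic g := fun V F => by
  have := h V F
  infer_instance

variable {X Y : Scheme.{u}} (f : X ⟶ Y)

theorem weaklyEtale_toBase {Ω : Type u} [Field Ω] [IsSepClosed Ω]
    (ξ : Spec (CommRingCat.of Ω) ⟶ X) : WeaklyEtale (toBase ξ) :=
  Groth.Agent.Sga4h.SLocTrans88.weaklyEtale_of_isStrictLoc (R := Osh ξ) (isStrictLoc_toBase ξ)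

theorem isZeroAcyclic_psi (hf : EtAcyc.IsLocZeroAcyclic f) {Ω : Type u} [Field Ω] [IsSepClosed Ω]
    (ξ : Spec (CommRingCat.of Ω) ⟶ X) : EtAcyc.IsZeroAcyclic (psi f ξ) := by
  have i1 : IsLocalRing (Osh (ξ ≫ f)) := inferInstance
  have i2 : IsLocalRing (Osh ξ) := inferInstance
  have h0 := (Groth.Agent.Etbc.H198.WeBC.onStrictLocalizations_iff f _).1 hf
  have h := @h0 (Osh (ξ ≫ f)) (Osh ξ) _ _ i1 i2
    (toBase (ξ ≫ f)) (toBase ξ) (isStrictLoc_toBase _) (isStrictLoc_toBase _) (psiHom f ξ)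
    (isLocalHom_psiHom f ξ) (by
      have e := spm_psiHom f ξ
      exact (congrArg (· ≫ toBase (ξ ≫ f)) e).trans (psi_toBase f ξ))
  have e : spm (psiHom f ξ) = psi f ξ := spm_psiHom f ξ
  rw [← e]
  exact h

theorem surjective_psi (hf : EtAcyc.IsLocZeroAcyclic f) {Ω : Type u} [Field Ω] [IsSepClosed Ω]
    (ξ : Spec (CommRingCat.of Ω) ⟶ X) : Surjective (psi f ξ) :=
  ⟨Groth.Agent.Etbc.H191.MinusOne.surjective_of_minusOneAcyclic (psi f ξ)
    (isMinusOneAcyclic_of_isZeroAcyclic _ (isZeroAcyclic_psi f hf ξ))⟩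

/-- Generizations lift along locally 0-acyclic morphisms. -/
theorem generalizingMap_of_isLocZeroAcyclic (hf : EtAcyc.IsLocZeroAcyclic f) :
    GeneralizingMap f := by
  intro x y hy
  obtain ⟨Ω, _, _, ξ, rfl⟩ := Groth.Agent.Sga4A.EtStalk.exists_geomPoint X x
  have w1 : WeaklyEtale (toBase (ξ ≫ f)) := weaklyEtale_toBase (ξ ≫ f)
  have h1 : GeneralizingMap (toBase (ξ ≫ f)) := Flat.generalizingMap _
  have e1 : toBase (ξ ≫ f) (pt (ξ ≫ f) default) = f (ξ default) := by
    rw [← Scheme.Hom.comp_apply, pt_toBase, Scheme.Hom.comp_apply]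
  obtain ⟨c, hc, hcy⟩ := @h1 (pt (ξ ≫ f) default) y (by rw [e1]; exact hy)
  obtain ⟨b, rfl⟩ := (surjective_psi f hf ξ).surj c
  refine ⟨toBase ξ b, ?_, ?_⟩
  · have h2 : b ⤳ pt ξ default := by
      rw [pt_default]
      exact specializes_closedPoint (R := Osh ξ) b
    have h3 := h2.map (toBase ξ).continuous
    rwa [← Scheme.Hom.comp_apply, pt_toBase] at h3
  · rw [← hcy, ← Scheme.Hom.comp_apply, ← Scheme.Hom.comp_apply, psi_toBase]

/-- The maps of strict localizations of a universally locally 0-acyclic morphism are universally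
submersive. -/
theorem isUnivSubmersive_psi (hf : EtAcyc.IsULocZeroAcyclic f) {Ω : Type u} [Field Ω]
    [IsSepClosed Ω] (ξ : Spec (CommRingCat.of Ω) ⟶ X) : EtDesc.IsUnivSubmersive (psi f ξ) := by
  have hf0 : EtAcyc.IsLocZeroAcyclic f := hf f (𝟙 _) (𝟙 _) (IsPullback.of_id_fst)
  have hs := surjective_psi f hf0 ξ
  apply GenSubm.isUnivSubmersive_of_generalizing
  intro T' T j k p H
  -- `T' = T ×_{O_S^sh} O_X^sh ⟶ T ×_S X ⟶ T`
  have w1 : WeaklyEtale (toBase (ξ ≫ f)) := weaklyEtale_toBase (ξ ≫ f)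
  have w2 : WeaklyEtale (toBase ξ) := weaklyEtale_toBase ξ
  let Z := pullback f (toBase (ξ ≫ f))
  let m : Spec (Osh ξ) ⟶ Z := pullback.lift (toBase ξ) (psi f ξ) (psi_toBase f ξ).symm
  have hm1 : m ≫ pullback.fst f (toBase (ξ ≫ f)) = toBase ξ := pullback.lift_fst _ _ _
  have hm2 : m ≫ pullback.snd f (toBase (ξ ≫ f)) = psi f ξ := pullback.lift_snd _ _ _
  have w3 : WeaklyEtale (m ≫ pullback.fst f (toBase (ξ ≫ f))) := by rw [hm1]; exact w2
  have w4 : WeaklyEtale m := WeaklyEtale.of_comp m (pullback.fst f (toBase (ξ ≫ f)))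
  -- base change to `T`
  let Z' := pullback (pullback.snd f (toBase (ξ ≫ f))) j
  let m' : T' ⟶ Z' := pullback.lift (k ≫ m) p (by rw [Category.assoc, hm2, H.w])
  have hm1' : m' ≫ pullback.fst _ j = k ≫ m := pullback.lift_fst _ _ _
  have hm2' : m' ≫ pullback.snd _ j = p := pullback.lift_snd _ _ _
  have H1 : IsPullback (pullback.fst (pullback.snd f (toBase (ξ ≫ f))) j) (pullback.snd _ j)
    (pullback.snd f (toBase (ξ ≫ f))) j := IsPullback.of_hasPullback _ _
  have H2 : IsPullback k m' m (pullback.fst (pullback.snd f (toBase (ξ ≫ f))) j) := by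
    refine IsPullback.of_bot ?_ hm1'.symm H1
    rw [hm2', hm2]
    exact H
  have w5 : WeaklyEtale m' := MorphismProperty.of_isPullback H2 w4
  have H3 : IsPullback (pullback.fst (pullback.snd f (toBase (ξ ≫ f))) j ≫
      pullback.fst f (toBase (ξ ≫ f))) (pullback.snd _ j) f (j ≫ toBase (ξ ≫ f)) :=
    H1.paste_horiz (IsPullback.of_hasPullback f (toBase (ξ ≫ f)))
  have g1 : GeneralizingMap (pullback.snd (pullback.snd f (toBase (ξ ≫ f))) j) :=
    generalizingMap_of_isLocZeroAcyclic _ (hf _ _ _ H3)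
  have g2 : GeneralizingMap m' := Flat.generalizingMap _
  have g3 := g2.comp g1
  rw [← hm2', Scheme.Hom.comp_base, TopCat.coe_comp]
  exact g3

end Groth.Agent.Etbc.H184.UnivSubm
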