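import Groth.Agent.Etbc.H184.FibConn
import Groth.Agent.Etbc.H184.UnivSubm
import Groth.Agent.Etbc.H184.BCStrictSh

/-!
# Base change of sheaves of sets by a universally locally 0-acyclic morphism

* `sepGeomConnected_psi` : the maps of strict localizations of a locally 0-acyclic morphism have connected
  geometric fibres;
* `isIso_baseChange0Sh` : degree zero base change for sheaves of sets along a universally locally 0-acyclic
  morphism.
-/

set_option autoImplicit false
universe u
open CategoryTheory CategoryTheory.Limits AlgebraicGeometry Opposite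

namespace Groth.Agent.Etbc.H184.ULZA

open Groth.Agent.EtpbcB.StrictLoc Groth.Agent.EtpbcB.Psi Groth.Agent.Etbc.H192.ZeroAcyc

/-- 0-acyclic morphisms `Spec B ⟶ Spec A` have connected geometric fibres. -/
theorem sepGeomConnected_of_isZeroAcyclic {A B : Type u} [CommRing A] [CommRing B]
    (φ : A →+* B) (h : EtAcyc.IsZeroAcyclic (Spec.map (CommRingCat.ofHom φ))) :
    SepGeomConnected (Spec.map (CommRingCat.ofHom φ)) := by
  let _ : Algebra A B := φ.toAlgebra
  exact FibConn.sepGeomConnected_spec (A := A) (B := B) h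

theorem sepGeomConnected_psi {X Y : Scheme.{u}} (f : X ⟶ Y) (hf : EtAcyc.IsLocZeroAcyclic f)
    {Ω : Type u} [Field Ω] [IsSepClosed Ω] (ξ : Spec (CommRingCat.of Ω) ⟶ X) :
    SepGeomConnected (psi f ξ) := by
  have h := UnivSubm.isZeroAcyclic_psi f hf ξ
  rw [← spm_psiHom f ξ] at h ⊢
  exact sepGeomConnected_of_isZeroAcyclic (psiHom f ξ) h

/-- **Base change by a universally locally 0-acyclic morphism**, for sheaves of sets. -/
theorem isIso_baseChange0Sh {X Y X' Y' : Scheme.{u}} (f : X ⟶ Y) (g : Y' ⟶ Y)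
    (f' : X' ⟶ Y') (g' : X' ⟶ X) (h : IsPullback g' f' f g) [QuasiCompact f] [QuasiSeparated f]
    (hg : EtAcyc.IsULocZeroAcyclic g) (F : EtDesc.Sh X) :
    IsIso (EtBC.baseChange0Sh f g f' g' h.w F) := by
  have hg0 : EtAcyc.IsLocZeroAcyclic g := hg g (𝟙 _) (𝟙 _) IsPullback.of_id_fst
  exact BCStrictSh.isIso_baseChange0Sh_of_strict h
    (fun Ω _ _ ξ => UnivSubm.isUnivSubmersive_psi g hg ξ)
    (fun Ω _ _ ξ => sepGeomConnected_psi g hg0 ξ) F

end Groth.Agent.Etbc.H184.ULZA
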